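import Cfsg.Agent.Lib.BlockThree.Twist

/-!
# Characters over an invariant character
-/

set_option autoImplicit false
set_option linter.style.haveILetI false
set_option linter.unusedSectionVars false

namespace Cfsg.Agent.SolClasses

open Cfsg Cfsg.Agent Cfsg.Agent.Char Cfsg.Agent.BlockThree Cfsg.Agent.RelMcKay Cfsg.Agent.Blocks

universe u

/-- Characters over a linear character of a central subgroup are at most as many as the classes
of the quotient. -/
theorem card_overLin_le {G : Type u} [Group G] [Finite G] {Z : Subgroup G} (hZ : Z ≤ Subgroup.center G)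
    (ε : Z →* ℂˣ) {Q : Type u} [Group Q] [Finite Q] (φ : G →* Q) (hφ : Function.Surjective φ)
    (hk : φ.ker = Z) : Nat.card (OverLin ε) ≤ Nat.card (ConjClasses Q) := by
  classical
  haveI := Fintype.ofFinite G
  haveI := Fintype.ofFinite (OverLin ε)
  haveI := Fintype.ofFinite (ConjClasses Q)
  have hmul : ∀ χ : OverLin ε, ∀ (x : G) (z : Z),
      ((χ : IrrCharacter G) : G → ℂ) (x * z) = ε z * ((χ : IrrCharacter G) : G → ℂ) x := by
    intro χ x z
    obtain ⟨ω, hω⟩ := exists_central_hom Z.subtype (fun z => hZ z.2) χ.1.2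
    have h1 := hω z 1
    rw [one_mul, show Z.subtype z = (z : G) from rfl, χ.2 z] at h1
    rw [mul_right_cancel₀ (IsIrrCharacter.one_ne_zero χ.1.2) h1]
    exact hω z x
  choose rep hrep using fun c : ConjClasses Q => hφ c.out
  let res : OverLin ε → (ConjClasses Q → ℂ) := fun χ c => ((χ : IrrCharacter G) : G → ℂ) (rep c)
  have hli : LinearIndependent ℂ res := by
    rw [Fintype.linearIndependent_iff]
    intro a ha
    refine Fintype.linearIndependent_iff.1
      ((linearIndependent_irr (G := G)).comp (fun χ : OverLin ε => (χ : IrrCharacter G))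
        Subtype.val_injective) a (funext fun g => ?_)
    let c := ConjClasses.mk (φ g)
    obtain ⟨q, hq⟩ : IsConj (φ (rep c)) (φ g) := by
      rw [hrep]
      exact ConjClasses.mk_eq_mk_iff_isConj.1 (Quotient.out_eq c)
    obtain ⟨h, hh⟩ := hφ q
    have hz : (h * rep c * h⁻¹)⁻¹ * g ∈ Z := by
      rw [← hk, MonoidHom.mem_ker, map_mul, map_inv, map_mul, map_mul, map_inv, hh]
      have h2 : (q : Q) * φ (rep c) = φ g * q := hq
      rw [h2, mul_inv_cancel_right, inv_mul_cancel]
    have hval : ∀ χ : OverLin ε, ((χ : IrrCharacter G) : G → ℂ) g =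
        ε ⟨_, hz⟩ * ((χ : IrrCharacter G) : G → ℂ) (rep c) := fun χ => by
      have h3 := hmul χ (h * rep c * h⁻¹) ⟨_, hz⟩
      rw [mul_inv_cancel_left, irr_conj_invariant χ.1 (rep c) h] at h3
      exact h3
    have h4 := congrFun ha c
    simp only [Finset.sum_apply, Pi.smul_apply, Function.comp_apply, smul_eq_mul, Pi.zero_apply, res] at h4 ⊢
    rw [Finset.sum_congr rfl fun χ _ => by rw [hval χ, mul_left_comm], ← Finset.mul_sum, h4, mul_zero]
  have h := hli.fintype_card_le_finrank
  rwa [Module.finrank_fintype_fun_eq_card, ← Nat.card_eq_fintype_card, ← Nat.card_eq_fintype_card] at h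

/-- There are at most as many characters over an invariant character as classes of the quotient. -/
theorem card_over_le {X : Type u} [Group X] [Fintype X] {C : Subgroup X} [C.Normal] [Fintype C]
    (θ : IrrCharacter C) (hinv : ∀ g, conjChar C g (θ : C → ℂ) = θ) :
    Nat.card (OverTh C (θ : C → ℂ)) ≤ Nat.card (ConjClasses (X ⧸ C)) := by
  obtain ⟨G, _, _, Z, ε, φ, hZ, hφ, hk, hcard⟩ := exists_triple θ hinv
  rw [hcard]
  exact card_overLin_le hZ ε φ hφ hk

end Cfsg.Agent.SolClasses
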