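import Cfsg.Agent.Lib.SolClasses.QuotientCount
import Cfsg.Agent.Lib.SolClasses.OverCount
import Cfsg.Agent.Lib.Blocks.FongSolvable
import Cfsg.Agent.Lib.Blocks.FongReynolds
import Cfsg.Agent.Lib.PLocal.PSolvable

/-!
# The size of blocks of soluble groups
-/

set_option autoImplicit false
set_option linter.style.haveILetI false
set_option linter.unusedSectionVars false

namespace Cfsg.Agent.SolClasses

open Cfsg Cfsg.Agent.Blocks Cfsg.Agent.Char Cfsg.Agent.BrauerPairs

universe u

theorem block_size_aux {p : ℕ} [Fact p.Prime] (n : ℕ) :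
    ∀ (G : Type u) [Group G] [Fintype G] (M : Ideal AlgInt) [M.IsPrime],
    Nat.card G = n → IsPModular p M → Group.IsSolvable G →
    ∀ B : Set (IrrCharacter G), IsPBlock M B → 0 < blockDefect p B →
      B.ncard ≤ 3 ^ (blockDefect p B - 1) * p ^ blockDefect p B := by
  induction n using Nat.strong_induction_on with
  | _ n ih =>
    intro G _ _ M _ hn hM hsol B hB hd
    classical
    have hp : p.Prime := Fact.out
    have hsolv : IsPSolvable p G := Cfsg.Agent.PSolvable.of_solvable hsol
    set N := pPrimeCore p G with hN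
    have hNp : ¬ p ∣ Nat.card N := hp.coprime_iff_not_dvd.1
      (Cfsg.Agent.PBasic.pPrimeCore_coprime p G).symm
    haveI : Fintype N := Fintype.ofFinite N
    obtain ⟨χ₀, hχ₀⟩ := isPBlock_nonempty hB
    obtain ⟨θ, hθ⟩ := exists_restrict_constituent χ₀.2 N
    by_cases hinv : ∀ g : G, cjIrr N g θ = θ
    · obtain ⟨B₀, hB₀, hmem, hsyl, -⟩ := fong_solvable hM hsolv N hN hNp θ hinv
      obtain rfl := isPBlock_eq_of_mem hB hB₀ hχ₀ ((hmem χ₀).2 hθ)
      have hdef : blockDefect p B = (Nat.card (G ⧸ N)).factorization p := by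
        have h1 := card_defectGroup hM hB (hsyl default)
        rw [Sylow.card_eq_multiplicity] at h1
        rw [← Nat.pow_right_injective hp.two_le h1, Subgroup.card_eq_card_quotient_mul_card_subgroup N,
          Nat.factorization_mul Nat.card_pos.ne' Nat.card_pos.ne', Finsupp.add_apply,
          Nat.factorization_eq_zero_of_not_dvd hNp, add_zero]
      haveI := hsol
      have hcore : pPrimeCore p (G ⧸ N) = ⊥ := by
        exact PBasic.pPrimeCore_quotient_pPrimeCore p G
      calc B.ncard ≤ Nat.card (BlockThree.OverTh N (θ : N → ℂ)) := by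
            rw [← Nat.card_coe_set_eq]
            exact Nat.card_mono (Set.toFinite _) fun χ hχ => (hmem χ).1 hχ
        _ ≤ Nat.card (ConjClasses (G ⧸ N)) := card_over_le θ fun g => congrArg Subtype.val (hinv g)
        _ ≤ _ := by
            rw [hdef]
            exact classes_le_of_pPrimeCore_bot inferInstance hcore (hdef ▸ hd)
    set T := inertia N (θ : N → ℂ) with hT
    haveI : Fintype T := Fintype.ofFinite T
    have hNT : N ≤ T := le_inertia N (IsCharacter.isClassFunction (irr_isCharacter θ))
    have hstab : ∀ g : G, g ∈ T ↔ ∀ φ ∈ ({θ} : Set (IrrCharacter N)),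
        cjIrr N g φ ∈ ({θ} : Set (IrrCharacter N)) := by
      intro g
      simp only [Set.mem_singleton_iff, forall_eq]
      exact ⟨fun h => Subtype.ext h, fun h => congrArg Subtype.val h⟩
    have hb : IsPBlock M ({θ} : Set (IrrCharacter N)) := by
      refine ⟨θ, (blockOf_eq_singleton hM θ ?_).symm⟩
      have h1 : (Nat.card N).factorization p = 0 := Nat.factorization_eq_zero_of_not_dvd hNp
      have h2 := degExp_le_card (p := p) θ
      omega
    obtain ⟨ψ, hψ, hχψ, -⟩ := Cfsg.Agent.FongReynolds.exists_inducing N hNT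
      ({θ} : Set (IrrCharacter N)) hstab hb (Set.mem_singleton θ) hθ
    set B' := blockOf M (ψ : T → ℂ) with hB'
    have hB'b : IsPBlock M B' := isPBlock_blockOf ψ
    have hcov : ∃ φ ∈ B', Cfsg.Agent.FongReynolds.Over N hNT ({θ} : Set (IrrCharacter N)) φ :=
      ⟨ψ, self_mem_blockOf ψ, hψ⟩
    obtain ⟨B₁, hind, -, hirr, hmem⟩ := Cfsg.Agent.FongReynolds.fong_reynolds N hNT
      ({θ} : Set (IrrCharacter N)) hstab hb hM hB'b hcov
    obtain rfl : B = B₁ := isPBlock_eq_of_mem hB hind.2.1 hχ₀
      ((hmem χ₀).2 ⟨ψ, self_mem_blockOf ψ, hχψ⟩)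
    have hlt : Nat.card T < n := by
      rw [← hn]
      refine lt_of_le_of_ne (Subgroup.card_le_card_group T) fun heq => hinv fun g => ?_
      exact Subtype.ext (show g ∈ T by rw [Subgroup.eq_top_of_card_eq T heq]; exact Subgroup.mem_top g)
    obtain ⟨D', hD'⟩ := exists_isDefectGroup (p := p) hB'b
    have hE := (Cfsg.Agent.FongReynolds.fong_reynolds_heights N hNT ({θ} : Set (IrrCharacter N))
      hstab hb hM hB'b hcov hind).1 D' hD'
    have hdef : blockDefect p B = blockDefect p B' := by
      refine Nat.pow_right_injective hp.two_le ?_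
      show p ^ blockDefect p B = p ^ blockDefect p B'
      rw [← card_defectGroup hM hB hE, ← card_defectGroup hM hB'b hD',
        Subgroup.card_map_of_injective T.subtype_injective]
    haveI := hsol
    have hle : B.ncard ≤ B'.ncard := by
      rw [← Nat.card_coe_set_eq, ← Nat.card_coe_set_eq]
      refine Nat.card_le_card_of_injective
        (fun χ : B => (⟨((hmem χ.1).1 χ.2).choose, ((hmem χ.1).1 χ.2).choose_spec.1⟩ : B')) fun χ χ' e => ?_
      refine Subtype.ext (Subtype.ext ?_)
      have e' : ((hmem χ.1).1 χ.2).choose = ((hmem χ'.1).1 χ'.2).choose := congrArg Subtype.val e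
      rw [((hmem χ.1).1 χ.2).choose_spec.2, ((hmem χ'.1).1 χ'.2).choose_spec.2, e']
    refine hle.trans ?_
    rw [hdef]
    exact ih (Nat.card T) hlt T M rfl hM inferInstance B' hB'b (hdef ▸ hd)

end Cfsg.Agent.SolClasses
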