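import Cfsg.Agent.Lib.SolClasses.ClassCount
import Cfsg.Agent.Lib.SolBase.Main
import Mathlib.LinearAlgebra.Matrix.GeneralLinearGroup.Card
import Mathlib.LinearAlgebra.Matrix.ToLin
import Mathlib.GroupTheory.Perm.Basic
import Mathlib.Tactic

/-!
# Systems of imprimitivity of linear groups
-/

set_option autoImplicit false
set_option linter.style.haveILetI false
set_option linter.unusedSectionVars false

namespace Cfsg.Agent.SolClasses

open PrimSol

universe u v w

/-- An invertible endomorphism as an automorphism of the underlying group. -/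
def autHom (F : Type w) (W : Type v) [Field F] [AddCommGroup W] [Module F W] :
    (Module.End F W)ˣ →* MulAut (Multiplicative W) where
  toFun f := AddEquiv.toMultiplicative (LinearMap.GeneralLinearGroup.toLinearEquiv f).toAddEquiv
  map_one' := MulEquiv.ext fun _ => rfl
  map_mul' _ _ := MulEquiv.ext fun _ => rfl

theorem autHom_injective (F : Type w) (W : Type v) [Field F] [AddCommGroup W] [Module F W] :
    Function.Injective (autHom F W) := fun _ _ h =>
  Units.ext (LinearMap.ext fun x => congrArg Multiplicative.toAdd (MulEquiv.congr_fun h (Multiplicative.ofAdd x)))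

/-- The number of invertible endomorphisms. -/
theorem card_units_eq {F : Type w} [Field F] [Finite F] {W : Type v} [AddCommGroup W] [Module F W]
    [FiniteDimensional F W] {n : ℕ} (hn : Module.finrank F W = n) :
    Nat.card (Module.End F W)ˣ = ∏ i : Fin n, (Nat.card F ^ n - Nat.card F ^ (i : ℕ)) := by
  classical
  haveI := Fintype.ofFinite F
  rw [Nat.card_congr (Units.mapEquiv
    (LinearMap.toMatrixAlgEquiv (Module.finBasisOfFinrankEq F W hn)).toRingEquiv.toMulEquiv).toEquiv]
  rw [Nat.card_eq_fintype_card (α := F)]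
  exact Matrix.card_GL_field n

variable {F : Type w} [Field F] {V : Type v} [AddCommGroup V] [Module F V] [FiniteDimensional F V]
  [Finite V] [Nontrivial V] {G : Type u} [Group G] [Finite G]

/-- A system of imprimitivity. -/
structure Blocks (ρ : G →* Module.End F V) where
  t : ℕ
  s : ℕ
  D : Fin t → Submodule F V
  π : G →* Equiv.Perm (Fin t)
  two_le : 2 ≤ t
  s_pos : 0 < s
  dim : t * s = Module.finrank F V
  rank : ∀ i, Module.finrank F (D i) = s
  ind : iSupIndep D
  top : iSup D = ⊤
  mem : ∀ g i, ∀ x ∈ D i, ρ g x ∈ D (π g i)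

/-- The order bound asked for on the groups of the blocks. -/
def IrredBound (F : Type w) [Field F] (s B : ℕ) : Prop :=
  ∀ (W : Type v) [AddCommGroup W] [Module F W] [FiniteDimensional F W] [Finite W] [Nontrivial W]
    (H : Type v) [Group H] [Finite H] (τ : H →* Module.End F W),
    Module.finrank F W = s → Function.Injective τ → Irred τ → Group.IsSolvable H → Nat.card H ≤ B

theorem exists_blocks {ρ : G →* Module.End F V} (h : ¬ NoDecomp ρ) : Nonempty (Blocks ρ) := by
  classical
  simp only [NoDecomp, not_forall] at h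
  obtain ⟨m, t, D, ht, hm, hrank, hind, htop, hperm, -⟩ := h
  have hDne : ∀ i, D i ≠ ⊥ := fun i h => by
    have := hrank i
    rw [h, finrank_bot] at this
    omega
  have hDinj : Function.Injective D := hind.injective hDne
  choose π hπ using hperm
  have hπm : ∀ g h i, π (g * h) i = π g (π h i) := by
    intro g h i
    apply hDinj
    rw [← hπ, ← hπ, ← hπ, map_mul, Module.End.mul_eq_comp, Submodule.map_comp]
  have hπ1 : ∀ i, π 1 i = i := fun i => hDinj (by
    rw [← hπ, map_one, Module.End.one_eq_id, Submodule.map_id])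
  letI : MulAction G (Fin t) :=
    { smul := π
      one_smul := hπ1
      mul_smul := hπm }
  have hdim : t * m = Module.finrank F V := by
    have hint : DirectSum.IsInternal D :=
      DirectSum.isInternal_submodule_of_iSupIndep_of_iSup_eq_top hind htop
    rw [← (LinearEquiv.ofBijective (DirectSum.coeLinearMap D) hint).finrank_eq,
      Module.finrank_directSum]
    simp [hrank]
  exact ⟨⟨t, m, D, MulAction.toPermHom G (Fin t), ht, hm, hdim, hrank, hind, htop,
    fun g i x hx => by
      show ρ g x ∈ D (π g i)
      rw [← hπ]; exact Submodule.mem_map_of_mem hx⟩⟩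

namespace Blocks

variable {ρ : G →* Module.End F V} (B : Blocks ρ)

theorem D_ne (i : Fin B.t) : B.D i ≠ ⊥ := fun h => by
  have := B.rank i
  rw [h, finrank_bot] at this
  exact B.s_pos.ne this

/-- The stabiliser of a block. -/
def stab (i : Fin B.t) : Subgroup G := (MulAction.stabilizer (Equiv.Perm (Fin B.t)) i).comap B.π

theorem stab_apply {i : Fin B.t} {g : G} (hg : g ∈ B.stab i) : B.π g i = i := hg

/-- The representation of the stabiliser on its block. -/
def blockHom (i : Fin B.t) : B.stab i →* Module.End F (B.D i) where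
  toFun k := (ρ (k : G)).restrict (p := B.D i) (q := B.D i) fun x hx => by
    have := B.mem (k : G) i x hx
    rwa [B.stab_apply k.2] at this
  map_one' := LinearMap.ext fun x => Subtype.ext (by
    show ρ ((1 : B.stab i) : G) (x : V) = x
    rw [OneMemClass.coe_one, map_one, Module.End.one_apply])
  map_mul' a b := LinearMap.ext fun x => Subtype.ext (by
    show ρ ((a * b : B.stab i) : G) (x : V) = ρ (a : G) (ρ (b : G) x)
    rw [Subgroup.coe_mul, map_mul, Module.End.mul_apply])

theorem blockHom_apply (i : Fin B.t) (k : B.stab i) (x : B.D i) :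
    ((B.blockHom i k x : B.D i) : V) = ρ (k : G) x := rfl

theorem ker_le_stab (i : Fin B.t) : B.π.ker ≤ B.stab i := fun g hg => by
  show B.π g i = i
  rw [show B.π g = 1 from hg, Equiv.Perm.one_apply]

/-- The kernel of the permutation representation on a block. -/
def bl (i : Fin B.t) : B.π.ker →* (Module.End F (B.D i))ˣ :=
  (B.blockHom i).toHomUnits.comp (Subgroup.inclusion (B.ker_le_stab i))

theorem bl_apply (i : Fin B.t) (n : B.π.ker) (x : B.D i) :
    (((B.bl i n : (Module.End F (B.D i))ˣ) : Module.End F (B.D i)) x : V) = ρ (n : G) x := rfl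

theorem bl_joint (hρ : Function.Injective ρ) (n : B.π.ker) (h : ∀ i, B.bl i n = 1) : n = 1 := by
  refine Subtype.ext (hρ ((LinearMap.ext fun u => ?_).trans (map_one ρ).symm))
  rw [Module.End.one_apply]
  have hu : u ∈ ⨆ i, B.D i := B.top ▸ Submodule.mem_top
  refine Submodule.iSup_induction B.D (motive := fun u => ρ (n : G) u = u) hu ?_ (map_zero _)
    (fun a b ha hb => by rw [map_add, ha, hb])
  intro i u hu
  have h2 := B.bl_apply i n ⟨u, hu⟩
  rw [h i, Units.val_one, Module.End.one_apply] at h2
  exact h2.symm

theorem card_range_le : Nat.card B.π.range ≤ Nat.factorial B.t := by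
  refine (Subgroup.card_le_card_group _).trans ?_
  rw [Nat.card_eq_fintype_card, Fintype.card_perm, Fintype.card_fin]

theorem orbit (hirr : Irred ρ) (i j : Fin B.t) : ∃ g, B.π g i = j := by
  set W := ⨆ g : G, B.D (B.π g i) with hW
  have hinv : ∀ g : G, ∀ w ∈ W, ρ g w ∈ W := by
    intro g w hw
    refine Submodule.iSup_induction (fun g => B.D (B.π g i)) (motive := fun w => ρ g w ∈ W) hw ?_ ?_ ?_
    · intro h x hx
      have h2 := B.mem g _ x hx
      rw [← Equiv.Perm.mul_apply, ← map_mul] at h2
      exact Submodule.mem_iSup_of_mem (g * h) h2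
    · rw [map_zero]; exact W.zero_mem
    · intro x y hx hy
      rw [map_add]; exact W.add_mem hx hy
  rcases hirr W hinv with h | h
  · exact absurd (le_bot_iff.1 ((le_iSup (fun g => B.D (B.π g i)) 1).trans h.le)) (B.D_ne _)
  · by_contra hcon
    push Not at hcon
    have hle : W ≤ ⨆ (k) (_ : k ≠ j), B.D k :=
      iSup_le fun g => le_iSup₂ (f := fun k (_ : k ≠ j) => B.D k) (B.π g i) (hcon g)
    rw [h, top_le_iff] at hle
    have hd := B.ind j
    rw [hle, disjoint_top] at hd
    exact B.D_ne j hd

theorem blockHom_irred (hirr : Irred ρ) (i0 : Fin B.t) : Irred (B.blockHom i0) := by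
  classical
  intro W hW
  by_contra hcon
  push Not at hcon
  obtain ⟨hW1, hW2⟩ := hcon
  choose r hr using B.orbit hirr i0
  have hrinv : ∀ j, B.π (r j)⁻¹ j = i0 := fun j => by
    rw [map_inv, Equiv.Perm.inv_eq_iff_eq, hr]
  let W0 : Submodule F V := W.map (B.D i0).subtype
  have hW0 : ∀ k ∈ B.stab i0, ∀ x ∈ W0, ρ k x ∈ W0 := by
    rintro k hk x ⟨y, hy, rfl⟩
    exact ⟨B.blockHom i0 ⟨k, hk⟩ y, hW _ y hy, B.blockHom_apply i0 ⟨k, hk⟩ y⟩
  let W' : Submodule F V := ⨆ j, W0.map (ρ (r j))
  have hinv : ∀ g : G, ∀ w ∈ W', ρ g w ∈ W' := by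
    intro g w hw
    refine Submodule.iSup_induction (fun j => W0.map (ρ (r j))) (motive := fun w => ρ g w ∈ W') hw ?_ ?_ ?_
    · rintro j x ⟨y, hy, rfl⟩
      have hk : (r (B.π g j))⁻¹ * g * r j ∈ B.stab i0 := by
        show B.π _ i0 = i0
        rw [map_mul, map_mul, Equiv.Perm.mul_apply, Equiv.Perm.mul_apply, hr, hrinv]
      refine Submodule.mem_iSup_of_mem (B.π g j)
        ⟨ρ ((r (B.π g j))⁻¹ * g * r j) y, hW0 _ hk y hy, ?_⟩
      simp only [map_mul, Module.End.mul_apply, apply_inv_cancel]
    · rw [map_zero]; exact W'.zero_mem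
    · intro x y hx hy
      rw [map_add]; exact W'.add_mem hx hy
  have hW0D : W0 ≤ B.D i0 := Submodule.map_subtype_le _ _
  rcases hirr W' hinv with h | h
  · refine hW1 (Submodule.map_injective_of_injective (B.D i0).injective_subtype ?_)
    rw [Submodule.map_bot, ← le_bot_iff]
    intro x hx
    have h2 : ρ (r i0) x ∈ W' := Submodule.mem_iSup_of_mem i0 (Submodule.mem_map_of_mem hx)
    rw [h, Submodule.mem_bot] at h2
    rw [Submodule.mem_bot]
    exact apply_injective ρ _ (h2.trans (map_zero _).symm)
  · refine hW2 (Submodule.map_injective_of_injective (B.D i0).injective_subtype ?_)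
    rw [Submodule.map_top, Submodule.range_subtype]
    refine le_antisymm hW0D ?_
    let R : Submodule F V := ⨆ (k) (_ : k ≠ i0), B.D k
    have hle : W' ≤ W0 ⊔ R := by
      refine iSup_le fun j => ?_
      by_cases hj : j = i0
      · rintro _ ⟨y, hy, rfl⟩
        exact Submodule.mem_sup_left (hW0 _ (by show B.π (r j) i0 = i0; rw [hr, hj]) y hy)
      · refine le_sup_of_le_right (le_trans ?_ (le_iSup₂ (f := fun k (_ : k ≠ i0) => B.D k) j hj))
        rintro _ ⟨y, hy, rfl⟩
        have h2 := B.mem (r j) i0 y (hW0D hy)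
        rwa [hr] at h2
    intro x hx
    have hx' : x ∈ W0 ⊔ R := hle (h ▸ Submodule.mem_top)
    obtain ⟨a, ha, b, hb, rfl⟩ := Submodule.mem_sup.1 hx'
    have hbD : b ∈ B.D i0 := by
      have := (B.D i0).sub_mem hx (hW0D ha)
      rwa [add_sub_cancel_left] at this
    have hb0 : b = 0 := Submodule.disjoint_def.1 (B.ind i0) b hbD hb
    rw [hb0, add_zero]
    exact ha

/-- The order of a group with a system of imprimitivity. -/
theorem card_le {ρ : G →* Module.End F V} (B : Blocks ρ) (hρ : Function.Injective ρ)
    (hirr : Irred ρ) (hsol : Group.IsSolvable G) {b : ℕ} (hb : IrredBound.{v} F B.s b) :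
    Nat.card G ≤ Nat.factorial B.t * b ^ B.t := by
  classical
  haveI := hsol
  rw [← B.π.ker.index_mul_card, Subgroup.index_ker]
  refine Nat.mul_le_mul B.card_range_le ?_
  have hblk : ∀ i, Nat.card (B.blockHom i).toHomUnits.range ≤ b := fun i => by
    haveI : Nontrivial (B.D i) := Submodule.nontrivial_iff_ne_bot.2 (B.D_ne i)
    set f := (B.blockHom i).toHomUnits with hf
    haveI : Finite (Module.End F (B.D i))ˣ := by
      haveI : Finite (Module.End F (B.D i)) := Finite.of_injective _ DFunLike.coe_injective
      exact Finite.of_injective _ Units.val_injective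
    have hs : Group.IsSolvable f.range := solvable_of_surjective f.rangeRestrict_surjective
    refine hb (B.D i) f.range ((Units.coeHom _).comp f.range.subtype) (B.rank i)
      (Units.val_injective.comp Subtype.val_injective) (fun W hW => B.blockHom_irred hirr i W ?_) hs
    exact fun k w hw => hW ⟨f k, k, rfl⟩ w hw
  haveI : ∀ i, Finite (B.blockHom i).toHomUnits.range := fun i => by
    haveI : Finite (Module.End F (B.D i)) := Finite.of_injective _ DFunLike.coe_injective
    haveI : Finite (Module.End F (B.D i))ˣ := Finite.of_injective _ Units.val_injective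
    infer_instance
  let Φ : B.π.ker →* (∀ i, (B.blockHom i).toHomUnits.range) :=
    MonoidHom.pi fun i => ((B.blockHom i).toHomUnits.rangeRestrict).comp
      (Subgroup.inclusion (B.ker_le_stab i))
  have hΦ : Function.Injective Φ := by
    rw [injective_iff_map_eq_one]
    exact fun n hn => B.bl_joint hρ n fun i => congrArg Subtype.val (congrFun hn i)
  refine (Nat.card_le_card_of_injective Φ hΦ).trans ?_
  rw [Nat.card_pi]
  refine (Finset.prod_le_pow_card _ _ b fun i _ => hblk i).trans ?_
  rw [Finset.card_univ, Fintype.card_fin]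

end Blocks

end Cfsg.Agent.SolClasses
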