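import Cfsg.Agent.S4201
import Mathlib.GroupTheory.CommutingProbability
import Mathlib.GroupTheory.Index
import Mathlib.Algebra.Group.Subgroup.Finite

/-!
# Bounds on class numbers of subgroups

`KB U b` : every subgroup containing `U` has at most `b` conjugacy classes.  The bound passes to
preimages, images and extensions.
-/

set_option autoImplicit false
set_option linter.unusedSectionVars false
set_option linter.style.haveILetI false

namespace Cfsg.Agent.SolClasses

/-- Every subgroup containing `U` has at most `b` conjugacy classes. -/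
def KB {Q : Type*} [Group Q] (U : Subgroup Q) (b : ℕ) : Prop :=
  ∀ X : Subgroup Q, U ≤ X → Nat.card (ConjClasses X) ≤ b

section Basic

variable {Q R : Type*} [Group Q] [Finite Q] [Group R] [Finite R]

theorem classes_le_card : Nat.card (ConjClasses Q) ≤ Nat.card Q :=
  Nat.card_le_card_of_surjective ConjClasses.mk ConjClasses.mk_surjective

theorem classes_le_of_surjective (f : Q →* R) (hf : Function.Surjective f) :
    Nat.card (ConjClasses R) ≤ Nat.card (ConjClasses Q) :=
  Nat.card_le_card_of_surjective _ (ConjClasses.map_surjective (f := f) hf)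

theorem classes_congr (e : Q ≃* R) : Nat.card (ConjClasses Q) = Nat.card (ConjClasses R) :=
  le_antisymm (classes_le_of_surjective e.symm.toMonoidHom e.symm.surjective)
    (classes_le_of_surjective e.toMonoidHom e.surjective)

theorem classes_le_ker_mul (f : Q →* R) :
    Nat.card (ConjClasses Q) ≤ Nat.card (ConjClasses f.ker) * Nat.card (ConjClasses f.range) :=
  (S4201.result f.ker).trans
    (Nat.mul_le_mul le_rfl (classes_congr (QuotientGroup.quotientKerEquivRange f)).le)

theorem KB.mono {U U' : Subgroup Q} {b b' : ℕ} (h : KB U b) (hU : U ≤ U') (hb : b ≤ b') :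
    KB U' b' := fun X hX => (h X (hU.trans hX)).trans hb

theorem kb_of_card {U : Subgroup Q} {b : ℕ} (h : Nat.card Q ≤ b) : KB U b := fun X _ =>
  (classes_le_card.trans (Subgroup.card_le_card_group X)).trans h

/-- Bound through a homomorphism: kernel times image. -/
theorem kb_hom (f : Q →* R) {U : Subgroup Q} {a b : ℕ} (hR : KB (U.map f) a)
    (hK : KB (U.subgroupOf f.ker) b) : KB U (a * b) := by
  intro X hX
  have h1 := classes_le_ker_mul (f.comp X.subtype)
  have h2 : Nat.card (ConjClasses (f.comp X.subtype).range) ≤ a := by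
    refine hR _ ?_
    rintro _ ⟨u, hu, rfl⟩
    exact ⟨⟨u, hX hu⟩, rfl⟩
  have h3 : Nat.card (ConjClasses (f.comp X.subtype).ker) ≤ b := by
    have e : (f.comp X.subtype).ker ≃* (X.subgroupOf f.ker : Subgroup f.ker) :=
      { toFun := fun x => ⟨⟨((x : X) : Q), x.2⟩, (x : X).2⟩
        invFun := fun y => ⟨⟨((y : f.ker) : Q), y.2⟩, (y : f.ker).2⟩
        left_inv := fun _ => rfl
        right_inv := fun _ => rfl
        map_mul' := fun _ _ => rfl }
    rw [classes_congr e]
    exact hK _ fun u hu => hX hu
  calc Nat.card (ConjClasses X) ≤ _ := h1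
    _ ≤ b * a := Nat.mul_le_mul h3 h2
    _ = a * b := mul_comm _ _

/-- The bound passes to preimages under injective maps. -/
theorem KB.of_injective {W : Subgroup R} {b : ℕ} (h : KB W b) (f : Q →* R)
    (hf : Function.Injective f) {U : Subgroup Q} (hU : W ≤ U.map f) : KB U b := fun X hX => by
  rw [classes_congr (X.equivMapOfInjective f hf)]
  exact h _ (hU.trans (Subgroup.map_mono hX))

/-- The bound passes to quotients. -/
theorem KB.of_surjective {W : Subgroup R} {b : ℕ} (h : KB W b) (g : R →* Q)
    (hg : Function.Surjective g) {U : Subgroup Q} (hU : W.map g ≤ U) : KB U b := fun X hX => by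
  refine le_trans ?_ (h (X.comap g) ((Subgroup.map_le_iff_le_comap.1 (hU.trans hX))))
  refine classes_le_of_surjective ((g.comp (X.comap g).subtype).codRestrict X fun x => x.2) ?_
  rintro ⟨x, hx⟩
  obtain ⟨y, rfl⟩ := hg x
  exact ⟨⟨y, hx⟩, rfl⟩

/-- Two homomorphisms with trivially meeting kernels. -/
theorem kb_two {R' : Type*} [Group R'] [Finite R'] (f : Q →* R) (g : Q →* R')
    (hinj : ∀ x, f x = 1 → g x = 1 → x = 1) {U : Subgroup Q} {W' : Subgroup R'} {a b : ℕ}
    (hR : KB (U.map f) a) (hR' : KB W' b) (hW' : W' ≤ (U ⊓ f.ker).map g) : KB U (a * b) := by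
  refine kb_hom f hR (hR'.of_injective (g.comp f.ker.subtype) ?_ ?_)
  · rw [injective_iff_map_eq_one]
    exact fun x hx => Subtype.ext (hinj _ x.2 hx)
  · refine hW'.trans ?_
    rintro _ ⟨x, ⟨hx, hxk⟩, rfl⟩
    exact ⟨⟨x, hxk⟩, hx, rfl⟩

end Basic

section Count

variable {G : Type*} [Group G] [Finite G]

theorem classes_mul_card :
    Nat.card (ConjClasses G) * Nat.card G = Nat.card {q : G × G // Commute q.1 q.2} :=
  (card_comm_eq_card_conjClasses_mul_card G).symm

theorem card_comm_eq_sum [Fintype G] : Nat.card {q : G × G // Commute q.1 q.2} =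
    ∑ x : G, Nat.card {y : G // Commute x y} := by
  rw [Nat.card_congr (Equiv.subtypeProdEquivSigmaSubtype fun x y : G => Commute x y), Nat.card_sigma]

theorem card_commute_le (Y : Subgroup G) (x : G) :
    Nat.card {z : G // Commute x z} ≤ Y.index * Nat.card {y : Y // Commute x (y : G)} := by
  let C : Subgroup G := Subgroup.centralizer ({x} : Set G)
  have e1 : {z : G // Commute x z} ≃ C := Equiv.subtypeEquivRight fun z => by
    rw [Subgroup.mem_centralizer_singleton_iff]; exact ⟨fun h => h.eq.symm, fun h => h.symm⟩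
  have e2 : {y : Y // Commute x (y : G)} ≃ (Y.subgroupOf C : Subgroup C) :=
    { toFun := fun y => ⟨⟨(y.1 : G), Subgroup.mem_centralizer_singleton_iff.2 y.2.eq.symm⟩,
        Subgroup.mem_subgroupOf.2 y.1.2⟩
      invFun := fun z => ⟨⟨((z : C) : G), Subgroup.mem_subgroupOf.1 z.2⟩,
        (Subgroup.mem_centralizer_singleton_iff.1 (z : C).2).symm⟩
      left_inv := fun _ => rfl
      right_inv := fun _ => rfl }
  rw [Nat.card_congr e1, Nat.card_congr e2, ← (Y.subgroupOf C).index_mul_card]
  refine Nat.mul_le_mul ?_ le_rfl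
  show Y.relIndex C ≤ Y.index
  rw [← Subgroup.relIndex_top_right]
  exact Subgroup.relIndex_le_of_le_right le_top Subgroup.index_ne_zero_of_finite

/-- `k(X) ≤ [X : Y] · k(Y)`. -/
theorem classes_le_index_mul (Y : Subgroup G) :
    Nat.card (ConjClasses G) ≤ Y.index * Nat.card (ConjClasses Y) := by
  haveI := Fintype.ofFinite G
  haveI := Fintype.ofFinite Y
  refine Nat.le_of_mul_le_mul_right ?_ (Nat.card_pos (α := G))
  rw [classes_mul_card, card_comm_eq_sum]
  calc ∑ x : G, Nat.card {z : G // Commute x z}
      ≤ ∑ x : G, Y.index * Nat.card {y : Y // Commute x (y : G)} :=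
        Finset.sum_le_sum fun x _ => card_commute_le Y x
    _ = Y.index * ∑ y : Y, Nat.card {z : G // Commute (y : G) z} := by
        rw [← Finset.mul_sum, ← Nat.card_sigma, ← Nat.card_sigma]
        congr 1
        exact Nat.card_congr
          { toFun := fun a => ⟨a.2.1, a.1, a.2.2.symm⟩
            invFun := fun a => ⟨a.2.1, a.1, a.2.2.symm⟩
            left_inv := fun _ => rfl
            right_inv := fun _ => rfl }
    _ ≤ Y.index * ∑ y : Y, Y.index * Nat.card {z : Y // Commute (y : G) (z : G)} :=
        Nat.mul_le_mul le_rfl (Finset.sum_le_sum fun y _ => card_commute_le Y (y : G))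
    _ = Y.index * Y.index * (Nat.card (ConjClasses Y) * Nat.card Y) := by
        rw [classes_mul_card, card_comm_eq_sum, ← Finset.mul_sum, ← mul_assoc]
        congr 1
        refine Finset.sum_congr rfl fun y _ => Nat.card_congr (Equiv.subtypeEquivRight fun z => ?_)
        exact ⟨fun h => Subtype.ext h, fun h => congrArg Subtype.val h⟩
    _ = Y.index * Nat.card (ConjClasses Y) * Nat.card G := by
        rw [← Y.index_mul_card]; ring

/-- Class number through the scalars-and-centralisers count. -/
theorem classes_le_of_centralizers (S : Finset G) (s c : ℕ) (hS : S.card ≤ s) (hcs : c ≤ Nat.card G)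
    (hc : ∀ x : G, x ∉ S → Nat.card {y : G // Commute x y} ≤ c) :
    Nat.card (ConjClasses G) * Nat.card G + s * c ≤ s * Nat.card G + Nat.card G * c := by
  classical
  haveI := Fintype.ofFinite G
  rw [classes_mul_card, card_comm_eq_sum, ← Finset.sum_add_sum_compl S]
  have h1 : ∑ x ∈ S, Nat.card {y : G // Commute x y} ≤ S.card * Nat.card G := by
    refine (Finset.sum_le_card_nsmul _ _ (Nat.card G) fun x _ => ?_).trans (by rw [smul_eq_mul])
    exact Nat.card_le_card_of_injective _ Subtype.val_injective
  have h2 : ∑ x ∈ Sᶜ, Nat.card {y : G // Commute x y} ≤ Sᶜ.card * c :=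
    (Finset.sum_le_card_nsmul _ _ c fun x hx => hc x (Finset.mem_compl.1 hx)).trans
      (by rw [smul_eq_mul])
  have h3 : S.card + Sᶜ.card = Nat.card G := by
    rw [Finset.card_compl, Nat.card_eq_fintype_card]
    have := S.card_le_univ
    omega
  obtain ⟨u, rfl⟩ : ∃ u, s = S.card + u := ⟨s - S.card, by omega⟩
  have h4 : u * c ≤ u * Nat.card G := Nat.mul_le_mul le_rfl hcs
  have h5 : Nat.card G * c = S.card * c + Sᶜ.card * c := by rw [← h3]; ring
  rw [h5, Nat.add_mul, Nat.add_mul]
  omega

end Count

end Cfsg.Agent.SolClasses
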