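import Cfsg.Agent.Lib.SolClasses.Blocks
import Cfsg.Agent.Lib.Solvable.Fitting
import Cfsg.Agent.S4958
import Mathlib.GroupTheory.SemidirectProduct
import Mathlib.GroupTheory.Nilpotent

/-!
# Class bounds modulo the Fitting subgroup and for the affine group
-/

set_option autoImplicit false
set_option linter.style.haveILetI false
set_option linter.unusedSectionVars false

namespace Cfsg.Agent.SolClasses

open PrimSol FittingCores

universe u v w

instance fittingNormalInst (G : Type u) [Group G] : (Cfsg.fittingSubgroup G).Normal := fitting_normal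

variable {F : Type w} [Field F] {V : Type v} [AddCommGroup V] [Module F V] [Finite V] {G : Type u}
  [Group G] [Finite G]

/-- The action on the space as a multiplicative group. -/
def actHom (ρ : G →* Module.End F V) : G →* MulAut (Multiplicative V) := (autHom F V).comp ρ.toHomUnits

theorem actHom_apply (ρ : G →* Module.End F V) (g : G) (x : Multiplicative V) :
    actHom ρ g x = Multiplicative.ofAdd (ρ g x.toAdd) := rfl

/-- The affine group. -/
abbrev Aff (ρ : G →* Module.End F V) := SemidirectProduct (Multiplicative V) G (actHom ρ)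

instance aff_finite (ρ : G →* Module.End F V) : Finite (Aff ρ) :=
  Finite.of_equiv _ SemidirectProduct.equivProd.symm

/-- The two bounds. -/
def Good (ρ : G →* Module.End F V) (b : ℕ) : Prop :=
  KB (⊥ : Subgroup (G ⧸ Cfsg.fittingSubgroup G)) b ∧
    KB (SemidirectProduct.inl : Multiplicative V →* Aff ρ).range (b * Nat.card V)

theorem Good.mono {ρ : G →* Module.End F V} {b b' : ℕ} (h : Good ρ b) (hb : b ≤ b') : Good ρ b' :=
  ⟨h.1.mono le_rfl hb, h.2.mono le_rfl (Nat.mul_le_mul_right _ hb)⟩

/-- Passing from a normal subgroup to the whole group. -/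
theorem good_extend {ρ : G →* Module.End F V} (N : Subgroup G) [N.Normal] {c b : ℕ}
    (hc : KB (⊥ : Subgroup (G ⧸ N)) c) (hN : Good (ρ.comp N.subtype) b) : Good ρ (c * b) := by
  classical
  set Φ := Cfsg.fittingSubgroup G with hΦ
  constructor
  · let f : G ⧸ Φ →* G ⧸ (Φ ⊔ N) := QuotientGroup.map Φ (Φ ⊔ N) (MonoidHom.id G) le_sup_left
    refine kb_hom f (a := c) (b := b) ?_ ?_
    · refine (hc.of_surjective (QuotientGroup.map N (Φ ⊔ N) (MonoidHom.id G) le_sup_right) ?_
        (by rw [Subgroup.map_bot])).mono bot_le le_rfl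
      intro y
      obtain ⟨g, rfl⟩ := QuotientGroup.mk_surjective y
      exact ⟨(g : G ⧸ N), rfl⟩
    · let g0 : N →* G ⧸ Φ := (QuotientGroup.mk' Φ).comp N.subtype
      have hg0 : ∀ n : N, f (g0 n) = 1 := fun n =>
        (QuotientGroup.eq_one_iff _).2 (Subgroup.mem_sup_right n.2)
      let g1 : N ⧸ Cfsg.fittingSubgroup N →* f.ker :=
        QuotientGroup.lift _ (g0.codRestrict f.ker hg0) fun n hn => Subtype.ext
          ((QuotientGroup.eq_one_iff _).2
            (fitting_map_subtype_le (inferInstance : N.Normal) (Subgroup.mem_map_of_mem _ hn)))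
      refine hN.1.of_surjective g1 ?_ (by rw [Subgroup.map_bot]; exact bot_le)
      rintro ⟨y, hy⟩
      obtain ⟨g, rfl⟩ := QuotientGroup.mk_surjective y
      have hg : g ∈ Φ ⊔ N := (QuotientGroup.eq_one_iff _).1 hy
      haveI : Φ.Normal := fitting_normal
      obtain ⟨x, hx, n, hn, rfl⟩ := Subgroup.mem_sup_of_normal_left.1 hg
      refine ⟨((⟨n, hn⟩ : N) : N ⧸ Cfsg.fittingSubgroup N), Subtype.ext ?_⟩
      show ((n : G) : G ⧸ Φ) = ((x * n : G) : G ⧸ Φ)
      rw [QuotientGroup.mk_mul, (QuotientGroup.eq_one_iff x).2 hx, one_mul]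
  · let f : Aff ρ →* G ⧸ N := (QuotientGroup.mk' N).comp SemidirectProduct.rightHom
    rw [mul_assoc]
    refine kb_hom f (a := c) (b := b * Nat.card V) (hc.mono bot_le le_rfl) ?_
    let g0 : Aff (ρ.comp N.subtype) →* Aff ρ :=
      SemidirectProduct.map (MonoidHom.id _) N.subtype fun n => rfl
    have hg0 : ∀ z, f (g0 z) = 1 := fun z => (QuotientGroup.eq_one_iff _).2 z.right.2
    refine hN.2.of_surjective (g0.codRestrict f.ker hg0) ?_ ?_
    · rintro ⟨z, hz⟩
      exact ⟨⟨z.left, ⟨z.right, (QuotientGroup.eq_one_iff _).1 hz⟩⟩, Subtype.ext rfl⟩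
    · rintro _ ⟨_, ⟨v, rfl⟩, rfl⟩
      exact ⟨v, rfl⟩

/-- The restriction to an invariant summand, as a representation of its image. -/
def restrictUnits (ρ : G →* Module.End F V) (W : Submodule F V) (hW : ∀ g, ∀ x ∈ W, ρ g x ∈ W) :
    G →* (Module.End F W)ˣ :=
  ({ toFun := fun g => (ρ g).restrict (hW g)
     map_one' := LinearMap.ext fun x => Subtype.ext (by
       show ρ (1 : G) (x : V) = x
       rw [map_one, Module.End.one_apply])
     map_mul' := fun a b => LinearMap.ext fun x => Subtype.ext (by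
       show ρ (a * b) (x : V) = ρ a (ρ b x)
       rw [map_mul, Module.End.mul_apply]) } : G →* Module.End F W).toHomUnits

/-- The representation of a group of units. -/
abbrev unitsRep {W : Type v} [AddCommGroup W] [Module F W] (H : Subgroup (Module.End F W)ˣ) :
    H →* Module.End F W := (Units.coeHom _).comp H.subtype

theorem unitsRep_injective {W : Type v} [AddCommGroup W] [Module F W] (H : Subgroup (Module.End F W)ˣ) :
    Function.Injective (unitsRep H) := Units.val_injective.comp Subtype.val_injective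

instance units_finite {W : Type v} [AddCommGroup W] [Module F W] [Finite W] :
    Finite (Module.End F W)ˣ :=
  haveI : Finite (Module.End F W) := Finite.of_injective _ DFunLike.coe_injective
  Finite.of_injective _ Units.val_injective

/-- Two invariant summands. -/
theorem good_binary {ρ : G →* Module.End F V} (hρ : Function.Injective ρ) {W1 W2 : Submodule F V}
    (h1 : ∀ g, ∀ x ∈ W1, ρ g x ∈ W1) (h2 : ∀ g, ∀ x ∈ W2, ρ g x ∈ W2) (hc : IsCompl W1 W2) {b1 b2 : ℕ}
    (hg1 : Good (unitsRep (restrictUnits ρ W1 h1).range) b1)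
    (hg2 : Good (unitsRep (restrictUnits ρ W2 h2).range) b2) : Good ρ (b1 * b2) := by
  classical
  set r1 := (restrictUnits ρ W1 h1).rangeRestrict with hr1
  set r2 := (restrictUnits ρ W2 h2).rangeRestrict with hr2
  have happ1 : ∀ g (x : W1), ((((r1 g : (Module.End F W1)ˣ) : Module.End F W1) x : W1) : V) = ρ g x :=
    fun _ _ => rfl
  have happ2 : ∀ g (x : W2), ((((r2 g : (Module.End F W2)ˣ) : Module.End F W2) x : W2) : V) = ρ g x :=
    fun _ _ => rfl
  have hjoint : ∀ g, r1 g = 1 → r2 g = 1 → g = 1 := by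
    intro g e1 e2
    refine hρ ((LinearMap.ext fun v => ?_).trans (map_one ρ).symm)
    rw [Module.End.one_apply]
    obtain ⟨a, ha, b, hb, rfl⟩ := Submodule.mem_sup.1 (hc.sup_eq_top ▸ Submodule.mem_top : v ∈ W1 ⊔ W2)
    rw [map_add]
    have ea : ρ g a = a := by
      rw [← happ1 g ⟨a, ha⟩, e1]; rfl
    have eb : ρ g b = b := by
      rw [← happ2 g ⟨b, hb⟩, e2]; rfl
    rw [ea, eb]
  constructor
  · set Φ1 := Cfsg.fittingSubgroup (restrictUnits ρ W1 h1).range with hΦ1
    set Φ2 := Cfsg.fittingSubgroup (restrictUnits ρ W2 h2).range with hΦ2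
    let K : Subgroup G := Φ1.comap r1 ⊓ Φ2.comap r2
    haveI : (Φ1.comap r1).Normal := (fitting_normal).comap r1
    haveI : (Φ2.comap r2).Normal := (fitting_normal).comap r2
    haveI hKn : K.Normal := Subgroup.normal_inf_normal _ _
    have hKΦ : K ≤ Cfsg.fittingSubgroup G := by
      refine le_fitting hKn ?_
      haveI : Group.IsNilpotent Φ1 := fitting_nilpotent
      haveI : Group.IsNilpotent Φ2 := fitting_nilpotent
      let f : K →* Φ1 × Φ2 := ((r1.comp K.subtype).codRestrict Φ1 fun k => k.2.1).prod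
        ((r2.comp K.subtype).codRestrict Φ2 fun k => k.2.2)
      have hf : Function.Injective f := (injective_iff_map_eq_one f).2 fun k hk => Subtype.ext
        (hjoint k (congrArg (fun z => (z.1 : (restrictUnits ρ W1 h1).range)) hk)
          (congrArg (fun z => (z.2 : (restrictUnits ρ W2 h2).range)) hk))
      exact Group.nilpotent_of_mulEquiv (MonoidHom.ofInjective hf).symm
    have hK : KB (⊥ : Subgroup (G ⧸ K)) (b1 * b2) := by
      refine kb_two (U := ⊥) (QuotientGroup.map K Φ1 r1 fun k hk => hk.1)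
        (QuotientGroup.map K Φ2 r2 fun k hk => hk.2) (fun z e1 e2 => ?_)
        (hg1.1.mono bot_le le_rfl) hg2.1 bot_le
      obtain ⟨g, rfl⟩ := QuotientGroup.mk_surjective z
      rw [QuotientGroup.map_mk] at e1 e2
      exact (QuotientGroup.eq_one_iff _).2 ⟨(QuotientGroup.eq_one_iff (r1 g)).1 e1,
        (QuotientGroup.eq_one_iff (r2 g)).1 e2⟩
    refine hK.of_surjective (QuotientGroup.map K (Cfsg.fittingSubgroup G) (MonoidHom.id G) hKΦ) (fun y => ?_)
      (by rw [Subgroup.map_bot])
    obtain ⟨g, rfl⟩ := QuotientGroup.mk_surjective y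
    exact ⟨(g : G ⧸ K), rfl⟩
  · let p1 : V →ₗ[F] W1 := W1.projectionOnto W2 hc
    let p2 : V →ₗ[F] W2 := W2.projectionOnto W1 hc.symm
    have hcomm : ∀ (Wa Wb : Submodule F V) (ha : ∀ g, ∀ x ∈ Wa, ρ g x ∈ Wa)
        (hb : ∀ g, ∀ x ∈ Wb, ρ g x ∈ Wb) (hab : IsCompl Wa Wb) (g : G) (v : V),
        ((Wa.projectionOnto Wb hab (ρ g v) : Wa) : V) = ρ g (Wa.projectionOnto Wb hab v : Wa) := by
      intro Wa Wb ha hb hab g v
      obtain ⟨a, haW, b, hbW, rfl⟩ := Submodule.mem_sup.1 (hab.sup_eq_top ▸ Submodule.mem_top : v ∈ Wa ⊔ Wb)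
      have e1 : Wa.projectionOnto Wb hab a = ⟨a, haW⟩ := Submodule.projectionOnto_apply_left hab ⟨a, haW⟩
      have e2 : Wa.projectionOnto Wb hab (ρ g a) = ⟨ρ g a, ha g a haW⟩ :=
        Submodule.projectionOnto_apply_left hab ⟨ρ g a, ha g a haW⟩
      have e3 : Wa.projectionOnto Wb hab b = 0 := Submodule.projectionOnto_apply_right hab ⟨b, hbW⟩
      have e4 : Wa.projectionOnto Wb hab (ρ g b) = 0 :=
        Submodule.projectionOnto_apply_right hab ⟨ρ g b, hb g b hbW⟩
      rw [map_add, map_add, map_add, e1, e2, e3, e4, add_zero, add_zero]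
    let f1 : Aff ρ →* Aff (unitsRep (restrictUnits ρ W1 h1).range) :=
      SemidirectProduct.map (AddMonoidHom.toMultiplicative p1.toAddMonoidHom) r1 fun g =>
        MonoidHom.ext fun x => congrArg Multiplicative.ofAdd (Subtype.ext (hcomm W1 W2 h1 h2 hc g x.toAdd))
    let f2 : Aff ρ →* Aff (unitsRep (restrictUnits ρ W2 h2).range) :=
      SemidirectProduct.map (AddMonoidHom.toMultiplicative p2.toAddMonoidHom) r2 fun g =>
        MonoidHom.ext fun x => congrArg Multiplicative.ofAdd (Subtype.ext (hcomm W2 W1 h2 h1 hc.symm g x.toAdd))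
    have hcard : Nat.card V = Nat.card W1 * Nat.card W2 := by
      rw [← Nat.card_prod]
      exact Nat.card_congr (Submodule.prodEquivOfIsCompl W1 W2 hc).toEquiv.symm
    rw [show b1 * b2 * Nat.card V = (b1 * Nat.card W1) * (b2 * Nat.card W2) by rw [hcard]; ring]
    refine kb_two f1 f2 (fun z e1 e2 => ?_) (hg1.2.mono ?_ le_rfl) hg2.2 ?_
    · have a1 : p1 z.left.toAdd = 0 := congrArg (fun y => y.left.toAdd) e1
      have a2 : p2 z.left.toAdd = 0 := congrArg (fun y => y.left.toAdd) e2
      have a3 : z.left.toAdd = 0 := by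
        have h1' := (Submodule.projectionOnto_apply_eq_zero_iff hc).1 a1
        have h2' := (Submodule.projectionOnto_apply_eq_zero_iff hc.symm).1 a2
        exact Submodule.disjoint_def.1 hc.disjoint _ h2' h1'
      exact SemidirectProduct.ext a3
        (hjoint z.right (congrArg SemidirectProduct.right e1) (congrArg SemidirectProduct.right e2))
    · rintro _ ⟨x, rfl⟩
      refine ⟨SemidirectProduct.inl (Multiplicative.ofAdd (x.toAdd : V)), ⟨_, rfl⟩,
        (SemidirectProduct.map_inl _ _ _ _).trans (congrArg SemidirectProduct.inl ?_)⟩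
      exact congrArg Multiplicative.ofAdd (Submodule.projectionOnto_apply_left hc x.toAdd)
    · rintro _ ⟨x, rfl⟩
      refine ⟨SemidirectProduct.inl (Multiplicative.ofAdd (x.toAdd : V)), ⟨⟨_, rfl⟩, ?_⟩,
        (SemidirectProduct.map_inl _ _ _ _).trans (congrArg SemidirectProduct.inl ?_)⟩
      · show f1 _ = 1
        refine (SemidirectProduct.map_inl _ _ _ _).trans ?_
        refine (congrArg SemidirectProduct.inl ?_).trans (map_one _)
        exact congrArg Multiplicative.ofAdd (Submodule.projectionOnto_apply_right hc x.toAdd)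
      · exact congrArg Multiplicative.ofAdd (Submodule.projectionOnto_apply_left hc.symm x.toAdd)

/-- A nilpotent group acting with abelian point stabilisers. -/
theorem good_nilpotent [Nontrivial V] {ρ : G →* Module.End F V} (hρ : Function.Injective ρ)
    (hnil : Group.IsNilpotent G) {p : ℕ} (hp : p.Prime) (hchar : CharP F p) (hpG : ¬ p ∣ Nat.card G)
    (hab : ∀ v : V, v ≠ 0 → ∀ a b : G, ρ a v = v → ρ b v = v → a * b = b * a) : Good ρ 1 := by
  classical
  haveI := Fact.mk hp
  refine ⟨?_, ?_⟩
  · refine kb_of_card (le_of_eq ?_)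
    rw [← Subgroup.index_eq_card, Subgroup.index_eq_one, eq_top_iff]
    haveI := hnil
    exact le_fitting inferInstance (Group.nilpotent_of_mulEquiv (Subgroup.topEquiv (G := G)).symm)
  · intro X hX
    rw [one_mul]
    set U : Subgroup (Aff ρ) := (SemidirectProduct.inl : Multiplicative V →* Aff ρ).range with hU
    haveI hUn : U.Normal := by
      rw [hU, SemidirectProduct.range_inl_eq_ker_rightHom]; infer_instance
    set U' : Subgroup X := U.subgroupOf X with hU'
    set C : Subgroup X := (SemidirectProduct.inr : G →* Aff ρ).range.subgroupOf X with hC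
    have hcardU : Nat.card U' = Nat.card V := by
      rw [hU', Nat.card_congr (Subgroup.subgroupOfEquivOfLe hX).toEquiv, hU,
        ← Nat.card_congr (MonoidHom.ofInjective SemidirectProduct.inl_injective).toEquiv,
        Nat.card_congr Multiplicative.toAdd]
    have hleft : ∀ x : X, x ∈ U' → (x : Aff ρ).right = 1 := fun x hx => by
      obtain ⟨v, e⟩ := Subgroup.mem_subgroupOf.1 hx
      rw [← e]; rfl
    have hcompl : Subgroup.IsComplement' U' C := by
      refine Subgroup.isComplement'_of_disjoint_and_mul_eq_univ ?_ ?_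
      · rw [disjoint_iff, eq_bot_iff]
        rintro x ⟨hxU, hxC⟩
        obtain ⟨g, e⟩ := Subgroup.mem_subgroupOf.1 hxC
        have h1 := hleft x hxU
        rw [← e] at h1
        refine Subgroup.mem_bot.2 (Subtype.ext ?_)
        rw [← e, show g = 1 from h1, map_one]
        rfl
      · refine Set.eq_univ_of_forall fun x => ?_
        have hl : (SemidirectProduct.inl (x : Aff ρ).left : Aff ρ) ∈ X := hX ⟨_, rfl⟩
        let l : X := ⟨SemidirectProduct.inl (x : Aff ρ).left, hl⟩
        have hlx : ((l⁻¹ * x : X) : Aff ρ) = SemidirectProduct.inr (x : Aff ρ).right :=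
          inv_mul_eq_of_eq_mul (SemidirectProduct.inl_left_mul_inr_right (x : Aff ρ)).symm
        exact ⟨l, Subgroup.mem_subgroupOf.2 ⟨_, rfl⟩, l⁻¹ * x,
          Subgroup.mem_subgroupOf.2 ⟨_, hlx.symm⟩, mul_inv_cancel_left l x⟩
    have hexp : ∀ x ∈ U', x ^ p = 1 := by
      intro x hx
      obtain ⟨v, e⟩ := Subgroup.mem_subgroupOf.1 hx
      refine Subtype.ext ?_
      rw [Subgroup.coe_pow, ← e, ← map_pow, OneMemClass.coe_one]
      refine (congrArg SemidirectProduct.inl ?_).trans (map_one _)
      show Multiplicative.ofAdd (p • v.toAdd) = 1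
      haveI := hchar
      rw [← Nat.cast_smul_eq_nsmul F, CharP.cast_eq_zero, zero_smul]
      rfl
    have hidx : ¬ p ∣ U'.index := by
      rw [hcompl.symm.index_eq_card]
      intro hd
      refine hpG (hd.trans ?_)
      exact Subgroup.card_dvd_of_injective (SemidirectProduct.rightHom.comp ((X.subtype).comp C.subtype))
        fun a b e => by
          obtain ⟨ga, ea⟩ := Subgroup.mem_subgroupOf.1 a.2
          obtain ⟨gb, eb⟩ := Subgroup.mem_subgroupOf.1 b.2
          refine Subtype.ext (Subtype.ext ?_)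
          have e' : ga = gb := by
            simpa [← ea, ← eb] using e
          rw [← ea, ← eb, e']
    have hself : Subgroup.centralizer (U' : Set X) = U' := by
      refine le_antisymm (fun x hx => ?_) fun x hx => Subgroup.mem_centralizer_iff.2 fun y hy => ?_
      · have hr : (x : Aff ρ).right = 1 := by
          refine hρ ((LinearMap.ext fun v => ?_).trans (map_one ρ).symm)
          have hl : (SemidirectProduct.inl (Multiplicative.ofAdd v) : Aff ρ) ∈ X := hX ⟨_, rfl⟩
          have h1 := congrArg (fun z : X => (z : Aff ρ).left)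
            (Subgroup.mem_centralizer_iff.1 hx ⟨_, hl⟩ (Subgroup.mem_subgroupOf.2 ⟨_, rfl⟩))
          simp only [Subgroup.coe_mul, SemidirectProduct.mul_left, SemidirectProduct.left_inl,
            SemidirectProduct.right_inl, map_one, MulAut.one_apply] at h1
          rw [mul_comm] at h1
          have h2 := congrArg Multiplicative.toAdd (mul_left_cancel h1)
          rw [Module.End.one_apply]
          exact h2.symm
        exact Subgroup.mem_subgroupOf.2 ⟨(x : Aff ρ).left, SemidirectProduct.ext rfl hr.symm⟩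
      · obtain ⟨a, ea⟩ := Subgroup.mem_subgroupOf.1 hx
        obtain ⟨b, eb⟩ := Subgroup.mem_subgroupOf.1 hy
        refine Subtype.ext ?_
        rw [Subgroup.coe_mul, Subgroup.coe_mul, ← ea, ← eb, ← map_mul, ← map_mul, mul_comm]
    obtain ⟨v, hv⟩ := exists_ne (0 : V)
    have hvX : (SemidirectProduct.inl (Multiplicative.ofAdd v) : Aff ρ) ∈ X := hX ⟨_, rfl⟩
    have hfix : ∀ a : X, a ∈ C ⊓ Subgroup.centralizer ({(⟨_, hvX⟩ : X)} : Set X) →
        ∃ g : G, SemidirectProduct.inr g = (a : Aff ρ) ∧ ρ g v = v := by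
      rintro a ⟨haC, hac⟩
      obtain ⟨g, e⟩ := Subgroup.mem_subgroupOf.1 haC
      refine ⟨g, e, ?_⟩
      have h1 := congrArg (fun z : X => (z : Aff ρ).left) (Subgroup.mem_centralizer_singleton_iff.1 hac)
      simp only [Subgroup.coe_mul, ← e, SemidirectProduct.mul_left, SemidirectProduct.left_inl,
        SemidirectProduct.right_inl, SemidirectProduct.left_inr, SemidirectProduct.right_inr,
        map_one, mul_one, one_mul] at h1
      exact congrArg Multiplicative.toAdd h1
    haveI : U'.Normal := hUn.subgroupOf X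
    refine le_trans (S4958.result p U' hexp hidx hself C hcompl ⟨_, hvX⟩
      (Subgroup.mem_subgroupOf.2 ⟨_, rfl⟩) fun a ha b hb => ?_) hcardU.le
    obtain ⟨g, eg, hg⟩ := hfix a ha
    obtain ⟨h, eh, hh⟩ := hfix b hb
    refine Subtype.ext ?_
    rw [Subgroup.coe_mul, Subgroup.coe_mul, ← eg, ← eh, ← map_mul, ← map_mul, hab v hv g h hg hh]

end Cfsg.Agent.SolClasses
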