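import Mathlib.GroupTheory.FiniteAbelian.Duality
import Mathlib.RingTheory.RootsOfUnity.Complex
import Mathlib.GroupTheory.PGroup
import Mathlib.GroupTheory.Index
import Mathlib.GroupTheory.SpecificGroups.Cyclic

/-!
# Alternating pairings with a group of semi-similitudes

A finite abelian group with a nondegenerate alternating pairing into a cyclic group, acted on
by a group respecting orthogonality and leaving no degenerate subgroup invariant, splits into
orthogonal irreducible pieces, each of square order.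
-/

set_option autoImplicit false
set_option linter.style.haveILetI false
set_option linter.unusedSectionVars false

namespace Cfsg.Agent.SolClasses

universe u

/-- There are at most `|M|` homomorphisms into a cyclic group. -/
theorem card_hom_le (M C : Type*) [CommGroup M] [Finite M] [CommGroup C] [Finite C] [IsCyclic C] :
    Finite (M →* C) ∧ Nat.card (M →* C) ≤ Nat.card M := by
  have hfin : Finite (M →* C) := Finite.of_injective _ DFunLike.coe_injective
  refine ⟨hfin, ?_⟩
  haveI : NeZero (Nat.card C) := ⟨Nat.card_pos.ne'⟩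
  haveI : NeZero (Monoid.exponent M) := ⟨Monoid.exponent_ne_zero_of_finite⟩
  haveI : HasEnoughRootsOfUnity ℂ (Nat.card C) :=
    ⟨⟨_, Complex.isPrimitiveRoot_exp _ (NeZero.ne _)⟩, inferInstance⟩
  let e : C ≃* rootsOfUnity (Nat.card C) ℂ :=
    mulEquivOfCyclicCardEq (by rw [HasEnoughRootsOfUnity.natCard_rootsOfUnity])
  let j : C →* ℂˣ := (rootsOfUnity (Nat.card C) ℂ).subtype.comp e.toMonoidHom
  have hj : Function.Injective j := Subtype.val_injective.comp e.injective
  haveI : HasEnoughRootsOfUnity ℂ (Monoid.exponent M) :=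
    ⟨⟨_, Complex.isPrimitiveRoot_exp _ (NeZero.ne _)⟩, inferInstance⟩
  refine le_of_le_of_eq (Nat.card_le_card_of_injective (fun f : M →* C => j.comp f) ?_)
    (CommGroup.card_monoidHom_of_hasEnoughRootsOfUnity M ℂ)
  intro f g h
  exact MonoidHom.ext fun x => hj (DFunLike.congr_fun h x)

/-- The data. -/
structure Sympl (Y M C : Type u) [Group Y] [CommGroup M] [CommGroup C] where
  β : M →* M →* C
  act : Y →* MulAut M
  Y1 : Subgroup Y
  alt : ∀ x, β x x = 1
  orth : ∀ (y : Y) (x z : M), β x z = 1 → β (act y x) (act y z) = 1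
  inv1 : ∀ y ∈ Y1, ∀ x z : M, β (act y x) (act y z) = β x z
  sub : ∀ B : Subgroup M, (∀ y : Y, ∀ x ∈ B, act y x ∈ B) →
    ∀ x ∈ B, (∀ z ∈ B, β x z = 1) → x = 1

variable {Y M C : Type u} [Group Y] [CommGroup M] [CommGroup C] (S : Sympl Y M C)

namespace Sympl

/-- The group induced by the similitudes of multiplier one. -/
def img : Subgroup (MulAut M) := S.Y1.map S.act

theorem nondeg {x : M} (h : ∀ z, S.β x z = 1) : x = 1 :=
  S.sub ⊤ (fun _ _ _ => trivial) x trivial fun z _ => h z

theorem symm {x z : M} (h : S.β x z = 1) : S.β z x = 1 := by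
  have h2 := S.alt (x * z)
  simpa [map_mul, MonoidHom.mul_apply, S.alt, h] using h2

/-- The orthogonal of a subgroup. -/
def perp (B : Subgroup M) : Subgroup M where
  carrier := {x | ∀ z ∈ B, S.β x z = 1}
  one_mem' := fun z _ => by simp
  mul_mem' := fun ha hb z hz => by simp [ha z hz, hb z hz]
  inv_mem' := fun ha z hz => by simp [ha z hz]

theorem perp_inv {B : Subgroup M} (hB : ∀ y : Y, ∀ x ∈ B, S.act y x ∈ B) :
    ∀ y : Y, ∀ x ∈ S.perp B, S.act y x ∈ S.perp B := by
  intro y x hx z hz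
  have hz' : S.act y⁻¹ z ∈ B := hB _ _ hz
  have := S.orth y x _ (hx _ hz')
  rwa [← MulAut.mul_apply, ← map_mul, mul_inv_cancel, map_one, MulAut.one_apply] at this

section
variable [Finite M] [Finite C] [IsCyclic C]

theorem isComplement {B : Subgroup M} (hB : ∀ y : Y, ∀ x ∈ B, S.act y x ∈ B) :
    B ⊓ S.perp B = ⊥ ∧ B ⊔ S.perp B = ⊤ ∧ Nat.card M = Nat.card B * Nat.card (S.perp B) := by
  have h1 : B ⊓ S.perp B = ⊥ := by
    rw [eq_bot_iff]
    exact fun x hx => Subgroup.mem_bot.2 (S.sub B hB x hx.1 hx.2)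
  obtain ⟨hfin, hle⟩ := card_hom_le B C
  let f : M →* (B →* C) :=
    { toFun := fun x => (S.β x).comp B.subtype
      map_one' := by ext z; simp
      map_mul' := fun a b => by ext z; simp }
  have hk : f.ker = S.perp B := by
    ext x
    exact ⟨fun h z hz => DFunLike.congr_fun h ⟨z, hz⟩, fun h => MonoidHom.ext fun z => h z z.2⟩
  have h2 : Nat.card M ≤ Nat.card B * Nat.card (S.perp B) := by
    rw [← (S.perp B).index_mul_card, ← hk, Subgroup.index_ker]
    exact Nat.mul_le_mul ((Subgroup.card_le_card_group _).trans hle) le_rfl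
  let g : B × S.perp B → M := fun w => (w.1 : M) * w.2
  have hg : Function.Injective g := by
    rintro ⟨a, b⟩ ⟨a', b'⟩ h
    change (a : M) * b = a' * b' at h
    have hm : (a' : M)⁻¹ * a ∈ B ⊓ S.perp B :=
      ⟨B.mul_mem (B.inv_mem a'.2) a.2, by
        rw [show (a' : M)⁻¹ * a = (b' : M) * (b : M)⁻¹ from by
          rw [eq_mul_inv_iff_mul_eq, mul_assoc, h, inv_mul_cancel_left]]
        exact (S.perp B).mul_mem b'.2 ((S.perp B).inv_mem b.2)⟩
    rw [h1, Subgroup.mem_bot, inv_mul_eq_one] at hm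
    rw [hm, mul_left_cancel_iff] at h
    exact Prod.ext (Subtype.ext hm.symm) (Subtype.ext h)
  have h3 : Nat.card M = Nat.card B * Nat.card (S.perp B) := by
    have := Nat.card_le_card_of_injective g hg
    rw [Nat.card_prod] at this
    omega
  refine ⟨h1, ?_, h3⟩
  have hbij := (Nat.bijective_iff_injective_and_card g).2 ⟨hg, by rw [Nat.card_prod, h3]⟩
  rw [eq_top_iff]
  intro x _
  obtain ⟨⟨a, b⟩, rfl⟩ := hbij.2 x
  exact Subgroup.mul_mem_sup a.2 b.2

/-- An elementary abelian group with such a pairing has square order. -/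
theorem card_square {p : ℕ} (hp : p.Prime) : ∀ (n : ℕ) (W : Subgroup M), Nat.card W = n →
    (∀ x ∈ W, x ^ p = 1) → (∀ x ∈ W, (∀ z ∈ W, S.β x z = 1) → x = 1) →
      ∃ m, n = p ^ (2 * m) := by
  intro n
  classical
  induction n using Nat.strong_induction_on with
  | _ n ih =>
  intro W hn hexp hnd
  rcases eq_or_ne W ⊥ with rfl | hW
  · exact ⟨0, by rw [← hn]; simp⟩
  obtain ⟨⟨x, hx⟩, hx1⟩ := Subgroup.bot_or_exists_ne_one W |>.resolve_left hW |> fun ⟨a, ha, ha1⟩ =>
    (⟨⟨a, ha⟩, fun h => ha1 (congrArg Subtype.val h)⟩ : ∃ a : W, a ≠ 1)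
  obtain ⟨y, hy, hxy⟩ : ∃ y ∈ W, S.β x y ≠ 1 := by
    by_contra hc
    push Not at hc
    exact hx1 (Subtype.ext (hnd x hx hc))
  set c := S.β x y with hc
  have hcp : orderOf c = p := orderOf_eq_prime (hp := Fact.mk hp) (by
    rw [hc, ← map_pow, hexp y hy, map_one]) hxy
  let P : Subgroup M := W ⊓ S.perp (Subgroup.closure {x, y})
  have hperp : ∀ z, z ∈ S.perp (Subgroup.closure {x, y}) ↔ S.β z x = 1 ∧ S.β z y = 1 := by
    intro z
    refine ⟨fun h => ⟨h x (Subgroup.subset_closure (by simp)), h y (Subgroup.subset_closure (by simp))⟩,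
      fun h w hw => ?_⟩
    induction hw using Subgroup.closure_induction with
    | mem w hw =>
      rcases hw with rfl | rfl
      · exact h.1
      · exact h.2
    | one => simp
    | mul a b _ _ ha hb => simp [ha, hb]
    | inv a _ ha => simp [ha]
  have hyx : S.β y x = c⁻¹ := by
    have h2 := S.alt (x * y)
    simp only [map_mul, MonoidHom.mul_apply, S.alt, one_mul, mul_one] at h2
    rw [eq_inv_iff_mul_eq_one]
    exact h2
  have hpowc : ∀ z ∈ W, ∀ u : M, ∃ i : ℕ, S.β z u = c ^ i := fun z hz u => by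
    have hz' : (S.β z u) ^ p = 1 := by rw [← MonoidHom.pow_apply, ← map_pow, hexp z hz, map_one]; rfl
    have hu : S.β z u ∈ Subgroup.zpowers c := by
      let K : Subgroup C := (powMonoidHom p : C →* C).ker
      have hK : Nat.card K ≤ p := by
        rw [IsCyclic.card_powMonoidHom_ker]
        exact Nat.le_of_dvd hp.pos (Nat.gcd_dvd_right _ _)
      have hle : Subgroup.zpowers c ≤ K := Subgroup.zpowers_le.2 (by
        show c ^ p = 1
        rw [← hcp, pow_orderOf_eq_one])
      rw [Subgroup.eq_of_le_of_card_ge hle (by rw [Nat.card_zpowers, hcp]; exact hK)]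
      exact hz'
    obtain ⟨i, hi⟩ := mem_zpowers_iff_mem_range_orderOf.1 hu |> Finset.mem_image.1
    exact ⟨i, hi.2.symm⟩
  have hdec : ∀ z ∈ W, ∃ i j : ℕ, z * (x ^ i * y ^ j) ∈ P := fun z hz => by
    obtain ⟨a, ha⟩ := hpowc z hz x
    obtain ⟨b, hb⟩ := hpowc z hz y
    refine ⟨b * (p - 1), a, W.mul_mem hz (W.mul_mem (W.pow_mem hx _) (W.pow_mem hy _)), (hperp _).2 ⟨?_, ?_⟩⟩
    · simp only [map_mul, map_pow, MonoidHom.mul_apply, MonoidHom.pow_apply, S.alt, hyx, ha, one_pow,
        one_mul, inv_pow, mul_inv_cancel]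
    · simp only [map_mul, map_pow, MonoidHom.mul_apply, MonoidHom.pow_apply, S.alt, hb, one_pow,
        mul_one, ← hc, ← pow_add]
      have hp' : c ^ p = 1 := by rw [← hcp, pow_orderOf_eq_one]
      rw [show b + b * (p - 1) = p * b by
        obtain ⟨q, rfl⟩ := Nat.exists_eq_add_of_le hp.one_le
        rw [Nat.add_sub_cancel_left]; ring, pow_mul, hp', one_pow]
  have hnd' : ∀ z ∈ P, (∀ w ∈ P, S.β z w = 1) → z = 1 := fun z hz h => hnd z hz.1 fun w hw => by
    obtain ⟨i, j, hij⟩ := hdec w hw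
    have h1 := h _ hij
    obtain ⟨hzx, hzy⟩ := (hperp z).1 hz.2
    simpa [hzx, hzy] using h1
  let g : (Fin p × Fin p) × P → W := fun q =>
    ⟨q.2 * (x ^ (q.1.1 : ℕ) * y ^ (q.1.2 : ℕ)),
      W.mul_mem q.2.2.1 (W.mul_mem (W.pow_mem hx _) (W.pow_mem hy _))⟩
  have hg : Function.Bijective g := by
    constructor
    · rintro ⟨⟨i, j⟩, z⟩ ⟨⟨i', j'⟩, z'⟩ h
      have h0 : (z : M) * (x ^ (i : ℕ) * y ^ (j : ℕ)) = z' * (x ^ (i' : ℕ) * y ^ (j' : ℕ)) :=
        congrArg Subtype.val h
      obtain ⟨hzx, hzy⟩ := (hperp _).1 z.2.2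
      obtain ⟨hzx', hzy'⟩ := (hperp _).1 z'.2.2
      have ex := congrArg (fun u => S.β u x) h0
      have ey := congrArg (fun u => S.β u y) h0
      simp only [map_mul, map_pow, MonoidHom.mul_apply, MonoidHom.pow_apply, S.alt, hyx, hzx, hzy,
        hzx', hzy', one_pow, one_mul, mul_one, ← hc] at ex ey
      rw [inv_pow, inv_pow, inv_inj] at ex
      have hj : j = j' := Fin.ext (pow_injOn_Iio_orderOf (by rw [hcp]; exact j.2) (by rw [hcp]; exact j'.2) ex)
      have hi : i = i' := Fin.ext (pow_injOn_Iio_orderOf (by rw [hcp]; exact i.2) (by rw [hcp]; exact i'.2) ey)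
      subst hi hj
      exact Prod.ext rfl (Subtype.ext (mul_right_cancel h0))
    · rintro ⟨z, hz⟩
      obtain ⟨i, j, hij⟩ := hdec z hz
      refine ⟨((⟨(i * (p - 1)) % p, Nat.mod_lt _ hp.pos⟩, ⟨(j * (p - 1)) % p, Nat.mod_lt _ hp.pos⟩), ⟨_, hij⟩), ?_⟩
      refine Subtype.ext ?_
      show z * (x ^ i * y ^ j) * (x ^ ((i * (p - 1)) % p) * y ^ ((j * (p - 1)) % p)) = z
      have hred : ∀ (u : M) (k : ℕ), u ∈ W → u ^ k * u ^ (k * (p - 1) % p) = 1 := fun u k hu => by
        rw [← pow_eq_pow_mod _ (hexp u hu), ← pow_add, show k + k * (p - 1) = p * k by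
          obtain ⟨q, rfl⟩ := Nat.exists_eq_add_of_le hp.one_le
          rw [Nat.add_sub_cancel_left]; ring, pow_mul, hexp u hu, one_pow]
      rw [mul_assoc, mul_mul_mul_comm, hred x i hx, hred y j hy, mul_one, mul_one]
  have hcard : n = p * p * Nat.card P := by
    rw [← hn, ← Nat.card_congr (Equiv.ofBijective g hg), Nat.card_prod, Nat.card_prod, Nat.card_fin]
  obtain ⟨m, hm⟩ := ih (Nat.card P) (by
    rw [hcard]
    exact lt_mul_of_one_lt_left Nat.card_pos (by nlinarith [hp.two_le])) P rfl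
    (fun z hz => hexp z hz.1) hnd'
  exact ⟨m + 1, by rw [hcard, hm, Nat.mul_add, pow_add]; ring⟩

end

/-- Restriction to an invariant subgroup. -/
def restrict (B : Subgroup M) (hB : ∀ y : Y, ∀ x ∈ B, S.act y x ∈ B) : Sympl Y B C where
  β := { toFun := fun x => (S.β x).comp B.subtype
         map_one' := by ext z; simp
         map_mul' := fun a b => by ext z; simp }
  act :=
    { toFun := fun y =>
        { toFun := fun x => ⟨S.act y x, hB y x x.2⟩
          invFun := fun x => ⟨S.act y⁻¹ x, hB _ x x.2⟩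
          left_inv := fun x => Subtype.ext (by
            show S.act y⁻¹ (S.act y x) = x
            rw [← MulAut.mul_apply, ← map_mul, inv_mul_cancel, map_one, MulAut.one_apply])
          right_inv := fun x => Subtype.ext (by
            show S.act y (S.act y⁻¹ x) = x
            rw [← MulAut.mul_apply, ← map_mul, mul_inv_cancel, map_one, MulAut.one_apply])
          map_mul' := fun a b => Subtype.ext (map_mul (S.act y) _ _) }
      map_one' := by ext x; simp
      map_mul' := fun a b => by ext x; simp [MulAut.mul_apply] }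
  Y1 := S.Y1
  alt := fun x => S.alt x
  orth := fun y x z h => S.orth y x z h
  inv1 := fun y hy x z => S.inv1 y hy x z
  sub := fun D hD x hx h => Subtype.ext (S.sub (D.map B.subtype)
    (fun y w hw => by
      obtain ⟨w', hw', rfl⟩ := hw
      exact ⟨⟨S.act y w', hB y w' w'.2⟩, hD y w' hw', rfl⟩)
    x ⟨x, hx, rfl⟩ (fun z hz => by
      obtain ⟨z', hz', rfl⟩ := hz
      exact h z' hz'))

theorem restrict_apply (B : Subgroup M) (hB : ∀ y : Y, ∀ x ∈ B, S.act y x ∈ B) (y : Y) (x : B) :
    (((S.restrict B hB).act y x : B) : M) = S.act y x := rfl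

end Sympl

end Cfsg.Agent.SolClasses
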