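import Cfsg.Agent.Lib.SolBase.Layer
import Cfsg.Agent.Lib.SolClasses.Pairing
import Cfsg.Agent.Lib.Solvable.Fitting
import Mathlib.FieldTheory.Galois.Basic
import Mathlib.LinearAlgebra.Dimension.Free
import Mathlib.LinearAlgebra.Matrix.ToLin
import Mathlib.GroupTheory.Nilpotent
import Mathlib.RingTheory.IntegralDomain

/-!
# The layer of a primitive soluble linear group

Numerical and group theoretical data attached to a maximal abelian normal subgroup `A` and the
class two layer `E` above it.
-/

set_option autoImplicit false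
set_option linter.style.haveILetI false
set_option linter.unusedSectionVars false

namespace Cfsg.Agent.SolClasses

open PrimSol SolBase
open scoped commutatorElement

universe u v w

/-- What is used about the layer of a primitive group `G` in dimension `r` over `q` scalars. -/
structure PrimData (G : Type u) [Group G] (q r : ℕ) where
  a : ℕ
  d : ℕ
  A : Subgroup G
  E : Subgroup G
  M : Type u
  [commM : CommGroup M]
  [finM : Finite M]
  C : Type u
  [commC : CommGroup C]
  [finC : Finite C]
  [cycC : IsCyclic C]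
  S : Sympl G M C
  a_pos : 0 < a
  d_pos : 0 < d
  dim : a * d = r
  A_comm : ∀ x ∈ A, ∀ y ∈ A, x * y = y * x
  card_A : Nat.card A ≤ q ^ a - 1
  card_A_dvd : Nat.card A ∣ q ^ a - 1
  A_le : A ≤ E
  E_normal : E.Normal
  E_nilp : Group.IsNilpotent E
  E_der : ∀ x ∈ E, ∀ y ∈ E, ⁅x, y⁆ ∈ A
  A_normal : A.Normal
  E_central : ∀ x ∈ E, ∀ y ∈ A, x * y = y * x
  cent_eq : S.Y1 = Subgroup.centralizer (A : Set G)
  Y1_normal : S.Y1.Normal
  Y1_index : S.Y1.index ≤ a
  act_ker : S.act.ker ⊓ S.Y1 = E
  card_M : Nat.card M = A.relIndex E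
  M_le : Nat.card M ≤ d * d
  M_sqfree : ∀ x : M, ∃ n : ℕ, Squarefree n ∧ x ^ n = 1
  M_prime : ∀ l : ℕ, l.Prime → l ∣ Nat.card M → l ∣ q ^ a - 1

attribute [instance] PrimData.commM PrimData.finM PrimData.commC PrimData.finC PrimData.cycC

namespace PrimData

variable {G : Type u} [Group G] [Finite G] {q r : ℕ} (P : PrimData G q r)

theorem E_le_cent : P.E ≤ P.S.Y1 := by
  rw [← P.act_ker]; exact inf_le_right

/-- The order of the group. -/
theorem card_le : Nat.card G ≤ P.a * (Nat.card P.A * Nat.card P.M * Nat.card P.S.img) := by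
  rw [← P.S.Y1.index_mul_card]
  refine Nat.mul_le_mul P.Y1_index ?_
  let f : P.S.Y1 →* MulAut P.M := P.S.act.comp P.S.Y1.subtype
  have hk : f.ker = P.E.subgroupOf P.S.Y1 := by
    ext x
    rw [Subgroup.mem_subgroupOf, ← P.act_ker]
    exact ⟨fun h => ⟨h, x.2⟩, fun h => h.1⟩
  rw [← f.ker.index_mul_card, hk, Nat.card_congr (Subgroup.subgroupOfEquivOfLe P.E_le_cent).toEquiv,
    ← hk, Subgroup.index_ker, mul_comm]
  refine Nat.mul_le_mul ?_ ?_
  · rw [P.card_M, Subgroup.relIndex, mul_comm,
      ← Nat.card_congr (Subgroup.subgroupOfEquivOfLe P.A_le).toEquiv, Subgroup.index_mul_card]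
  · rw [show f.range = P.S.img from MonoidHom.range_comp _ _ |>.trans (by rw [Subgroup.range_subtype]; rfl)]

end PrimData

section Build

variable {F : Type v} [Field F] [Finite F] {V : Type w} [AddCommGroup V] [Module F V]
  [FiniteDimensional F V] [Finite V] [Nontrivial V] {G : Type u} [Group G] [Finite G]

theorem nilpotent_of_central {E A : Subgroup G} (hA : A ≤ E) (hc : ∀ x ∈ E, ∀ y ∈ A, x * y = y * x)
    (hd : ∀ x ∈ E, ∀ y ∈ E, ⁅x, y⁆ ∈ A) : Group.IsNilpotent E := by
  let K : Subgroup E := A.subgroupOf E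
  have hKc : K ≤ Subgroup.center E := fun x hx => Subgroup.mem_center_iff.2 fun g =>
    Subtype.ext (hc g g.2 x (Subgroup.mem_subgroupOf.1 hx))
  haveI : K.Normal := ⟨fun x hx g => by
    rw [Subgroup.mem_center_iff.1 (hKc hx) g, mul_inv_cancel_right]; exact hx⟩
  letI : CommGroup (E ⧸ K) :=
    { (inferInstance : Group (E ⧸ K)) with
      mul_comm := fun x y => by
        obtain ⟨f, rfl⟩ := QuotientGroup.mk_surjective x
        obtain ⟨h, rfl⟩ := QuotientGroup.mk_surjective y
        rw [← QuotientGroup.mk_mul, ← QuotientGroup.mk_mul, QuotientGroup.eq, Subgroup.mem_subgroupOf]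
        have e : (((f * h)⁻¹ * (h * f) : E) : G) = ⁅(h : G)⁻¹, (f : G)⁻¹⁆ := by
          push_cast; rw [commutatorElement_def]; group
        rw [e]
        exact hd _ (inv_mem h.2) _ (inv_mem f.2) }
  exact Subgroup.isNilpotent_of_ker_le_center (QuotientGroup.mk' K)
    (by rw [QuotientGroup.ker_mk']; exact hKc)

/-- Operators permuting distinct characters are independent. -/
theorem card_le_sq {L W : Type*} [Field L] [AddCommGroup W] [Module L W] [Module.Finite L W]
    {M H : Type*} [Fintype M] (T : M → Module.End L W) (U : H → Module.End L W)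
    (hU : ∀ h, Function.Surjective (U h)) (χ : H → M → L)
    (hconj : ∀ h x v, U h (T x v) = χ h x • T x (U h v))
    (hsep : ∀ x y, x ≠ y → ∃ h, χ h x ≠ χ h y) (hT : ∀ x, T x ≠ 0) :
    Nat.card M ≤ Module.finrank L W * Module.finrank L W := by
  classical
  have hind : LinearIndependent L T := by
    rw [linearIndependent_iff']
    intro s
    induction s using Finset.strongInduction with
    | _ s ih =>
    intro c hc i hi
    by_contra hci
    rcases eq_or_ne (s.erase i) ∅ with he | he
    · have hs : s = {i} := by rw [← Finset.insert_erase hi, he]; rfl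
      rw [hs, Finset.sum_singleton, smul_eq_zero] at hc
      exact hc.elim hci (hT i)
    obtain ⟨i', hi'⟩ := Finset.nonempty_iff_ne_empty.2 he
    obtain ⟨hii, hi's⟩ := Finset.mem_erase.1 hi'
    obtain ⟨h, hh⟩ := hsep i' i hii
    have hc2 : ∑ x ∈ s, (c x * χ h x) • T x = 0 := by
      refine LinearMap.ext fun w => ?_
      obtain ⟨v, rfl⟩ := hU h w
      have h0 := congrArg (fun f : Module.End L W => U h (f v)) hc
      simp only [LinearMap.coe_sum, Finset.sum_apply, LinearMap.smul_apply, LinearMap.zero_apply,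
        map_zero, map_sum, map_smul, hconj, smul_smul] at h0 ⊢
      exact h0
    have hc3 : ∑ x ∈ s.erase i, (c x * χ h x - c x * χ h i) • T x = 0 := by
      rw [Finset.sum_erase _ (by rw [sub_self, zero_smul])]
      simp only [sub_smul, Finset.sum_sub_distrib]
      rw [hc2, zero_sub, neg_eq_zero]
      calc ∑ x ∈ s, (c x * χ h i) • T x = χ h i • ∑ x ∈ s, c x • T x := by
            rw [Finset.smul_sum]; exact Finset.sum_congr rfl fun x _ => by rw [smul_smul, mul_comm]
        _ = 0 := by rw [hc, smul_zero]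
    have h4 := ih _ (Finset.erase_ssubset hi) _ hc3 i' hi'
    rw [← mul_sub, mul_eq_zero] at h4
    rcases h4 with h4 | h4
    · refine hci (ih (s.erase i') (Finset.erase_ssubset hi's) c ?_ i
        (Finset.mem_erase.2 ⟨fun e => hii e.symm, hi⟩))
      rw [Finset.sum_erase _ (by rw [h4, zero_smul])]
      exact hc
    · exact hh (sub_eq_zero.1 h4)
  have := hind.fintype_card_le_finrank
  rwa [Module.finrank_linearMap, ← Nat.card_eq_fintype_card] at this

variable (ρ : G →* Module.End F V)

set_option maxHeartbeats 1000000 in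
set_option synthInstance.maxHeartbeats 200000 in
/-- The data exist; in addition the scalars are those of the ground field when `a = 1`, the layer
is self-centralising, and conjugation is the action. -/
theorem exists_primData_ext (hρ : Function.Injective ρ) (hirr : Irred ρ) (hprim : NoDecomp ρ)
    (hsol : Group.IsSolvable G) :
    ∃ P : PrimData G (Nat.card F) (Module.finrank F V),
      (P.a = 1 → ∀ x ∈ P.A, ∃ c : F, ρ x = algebraMap F (Module.End F V) c) ∧
      (∀ g, (∀ c ∈ P.A, g * c = c * g) → (∀ f ∈ P.E, g * f = f * g) → g ∈ P.A) ∧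
      (∀ g, (∀ f ∈ P.E, ⁅g, f⁆ ∈ P.A) → P.S.act g = 1) := by
  classical
  haveI := Fintype.ofFinite (Subgroup G)
  obtain ⟨A, hAmem, hAmax⟩ := Finset.exists_max_image
    (Finset.univ.filter fun B : Subgroup G => B.Normal ∧ IsMulCommutative B) (fun B => Nat.card B)
    ⟨⊥, Finset.mem_filter.2 ⟨Finset.mem_univ _, inferInstance,
      ⟨⟨fun a b => Subsingleton.elim _ _⟩⟩⟩⟩
  obtain ⟨hAn, hAc⟩ := (Finset.mem_filter.1 hAmem).2
  haveI := hAn
  have hcomm : ∀ x ∈ A, ∀ y ∈ A, x * y = y * x := fun x hx y hy =>
    congrArg Subtype.val (hAc.is_comm.comm ⟨x, hx⟩ ⟨y, hy⟩)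
  have hmax : ∀ B : Subgroup G, B.Normal → IsMulCommutative B → A ≤ B → B = A := fun B hB hBc hAB =>
    (Subgroup.eq_of_le_of_card_ge hAB (hAmax B (Finset.mem_filter.2 ⟨Finset.mem_univ _, hB, hBc⟩))).symm
  have hK := isScalars hirr hprim hAc
  obtain ⟨E, hEn, hAE, hEC, hEd, hEx, hself⟩ := exists_layer hsol hAc hmax
  haveI := hEn
  -- the field of scalars
  set L := alg ρ A with hL
  haveI hfinL : Finite L := Finite.of_injective (fun k : L => ⇑(k : Module.End F V))
    (DFunLike.coe_injective.comp Subtype.val_injective)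
  have hfield : IsField L :=
    { exists_pair_ne := ⟨0, 1, fun h => by
        have h1 := congrArg (fun k : L => (k : Module.End F V)) h
        simp only [ZeroMemClass.coe_zero, OneMemClass.coe_one] at h1
        exact zero_ne_one h1⟩
      mul_comm := fun x y => Subtype.ext (hK.comm x x.2 y y.2)
      mul_inv_cancel := fun {x} hx => by
        obtain ⟨k, hk, hk'⟩ := hK.inv x x.2 (fun h => hx (Subtype.ext h))
        exact ⟨⟨k, hk⟩, Subtype.ext ((hK.comm x x.2 k hk).trans hk')⟩ }
  letI : Field L := hfield.toField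
  set a := Module.finrank F L with ha
  set d := Module.finrank L V with hd
  haveI : Module.Finite F L := Module.Finite.of_finite
  haveI : Module.Finite L V := Module.Finite.of_finite
  have hdim : a * d = Module.finrank F V := Module.finrank_mul_finrank F L V
  have hapos : 0 < a := Module.finrank_pos
  have hdpos : 0 < d := Module.finrank_pos
  have hcardL : Nat.card L = Nat.card F ^ a := Module.natCard_eq_pow_finrank
  -- the scalar homomorphism
  let j : A →* L :=
    { toFun := fun x => ⟨ρ x, Algebra.subset_adjoin ⟨x, x.2, rfl⟩⟩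
      map_one' := Subtype.ext (by simp)
      map_mul' := fun x y => Subtype.ext (by simp) }
  have hj : Function.Injective j := fun x y h => Subtype.ext (hρ (congrArg Subtype.val h))
  haveI : IsCyclic A := isCyclic_of_injective_ringHom j hj
  letI : CommGroup A :=
    { (inferInstance : Group A) with mul_comm := fun x y => Subtype.ext (hcomm x x.2 y y.2) }
  have hcardA : Nat.card A ≤ Nat.card F ^ a - 1 := by
    rw [← hcardL, ← Nat.card_units]
    exact Nat.card_le_card_of_injective _ (fun x y h => hj (congrArg Units.val h) : Function.Injective j.toHomUnits)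
  have hdvdA : Nat.card A ∣ Nat.card F ^ a - 1 := by
    rw [← hcardL, ← Nat.card_units]
    exact Subgroup.card_dvd_of_injective j.toHomUnits fun x y h => hj (congrArg Units.val h)
  -- the quotient
  let M := E ⧸ A.subgroupOf E
  letI : CommGroup M :=
    { (inferInstance : Group M) with
      mul_comm := fun x y => by
        obtain ⟨f, rfl⟩ := QuotientGroup.mk_surjective x
        obtain ⟨h, rfl⟩ := QuotientGroup.mk_surjective y
        rw [← QuotientGroup.mk_mul, ← QuotientGroup.mk_mul, QuotientGroup.eq, Subgroup.mem_subgroupOf]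
        have e : (((f * h)⁻¹ * (h * f) : E) : G) = ⁅(h : G)⁻¹, (f : G)⁻¹⁆ := by
          push_cast; rw [commutatorElement_def]; group
        rw [e]
        exact hEd _ (inv_mem h.2) _ (inv_mem f.2) }
  -- the commutator pairing
  have hcl : ∀ x ∈ E, ∀ h ∈ E, ∀ k ∈ E, ⁅x * h, k⁆ = ⁅x, k⁆ * ⁅h, k⁆ := by
    intro f hf h hh k hk
    have e : ⁅f * h, k⁆ = f * ⁅h, k⁆ * f⁻¹ * ⁅f, k⁆ := by
      rw [commutatorElement_def, commutatorElement_def, commutatorElement_def]; group
    rw [e, hEC f hf _ (hEd h hh k hk), mul_inv_cancel_right,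
      hcomm _ (hEd h hh k hk) _ (hEd f hf k hk)]
  have hcr : ∀ x ∈ E, ∀ h ∈ E, ∀ k ∈ E, ⁅k, x * h⁆ = ⁅k, x⁆ * ⁅k, h⁆ := by
    intro f hf h hh k hk
    rw [← commutatorElement_inv, hcl f hf h hh k hk, mul_inv_rev, commutatorElement_inv,
      commutatorElement_inv, hcomm _ (hEd k hk h hh) _ (hEd k hk f hf)]
  have hzero : ∀ x ∈ A, ∀ k ∈ E, ⁅x, k⁆ = 1 := fun x hx k hk =>
    commutatorElement_eq_one_iff_mul_comm.2 (hEC k hk x hx).symm
  let β1 : E → (M →* A) := fun f => QuotientGroup.lift _
    ({ toFun := fun k => ⟨⁅(f : G), (k : G)⁆, hEd _ f.2 _ k.2⟩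
       map_one' := Subtype.ext (by simp)
       map_mul' := fun x y => Subtype.ext (hcr x x.2 y y.2 f f.2) } : E →* A)
    (fun k hk => Subtype.ext (commutatorElement_eq_one_iff_mul_comm.2
      (hEC f f.2 k (Subgroup.mem_subgroupOf.1 hk))))
  let β : M →* M →* A := QuotientGroup.lift _
    ({ toFun := β1
       map_one' := QuotientGroup.monoidHom_ext _ (MonoidHom.ext fun k => Subtype.ext (by simp [β1]))
       map_mul' := fun x y => QuotientGroup.monoidHom_ext _ (MonoidHom.ext fun k =>
         Subtype.ext (hcl x x.2 y y.2 k k.2)) } : E →* M →* A)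
    (fun f hf => QuotientGroup.monoidHom_ext _ (MonoidHom.ext fun k =>
      Subtype.ext (hzero f (Subgroup.mem_subgroupOf.1 hf) k k.2)))
  have hβ : ∀ f h : E, ((β (f : M) (h : M) : A) : G) = ⁅(f : G), (h : G)⁆ := fun _ _ => rfl
  -- the action
  have hAmap : ∀ g : G, A.subgroupOf E ≤ (A.subgroupOf E).comap (MulAut.conjNormal (H := E) g).toMonoidHom := by
    intro g x hx
    rw [Subgroup.mem_comap, Subgroup.mem_subgroupOf]
    show ((MulAut.conjNormal g x : E) : G) ∈ A
    rw [MulAut.conjNormal_apply]
    exact hAn.conj_mem _ (Subgroup.mem_subgroupOf.1 hx) g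
  let actf : G → (M →* M) := fun g =>
    QuotientGroup.map _ _ (MulAut.conjNormal (H := E) g).toMonoidHom (hAmap g)
  have hactf : ∀ (g : G) (f : E), actf g (f : M) = ((MulAut.conjNormal g f : E) : M) := fun _ _ => rfl
  have hactm : ∀ g h x, actf g (actf h x) = actf (g * h) x := by
    intro g h x
    obtain ⟨f, rfl⟩ := QuotientGroup.mk_surjective x
    rw [hactf, hactf, hactf, map_mul, MulAut.mul_apply]
  have hact1 : ∀ x, actf 1 x = x := fun x => by
    obtain ⟨f, rfl⟩ := QuotientGroup.mk_surjective x
    rw [hactf, map_one, MulAut.one_apply]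
  let act : G →* MulAut M :=
    { toFun := fun g =>
        { toFun := actf g
          invFun := actf g⁻¹
          left_inv := fun x => by rw [hactm, inv_mul_cancel, hact1]
          right_inv := fun x => by rw [hactm, mul_inv_cancel, hact1]
          map_mul' := map_mul (actf g) }
      map_one' := MulEquiv.ext hact1
      map_mul' := fun g h => MulEquiv.ext fun x => (hactm g h x).symm }
  have hact : ∀ (g : G) (f : E), act g (f : M) = ((MulAut.conjNormal g f : E) : M) := fun _ _ => rfl
  have hβact : ∀ (g : G) (x z : M), ((β (act g x) (act g z) : A) : G) = g * (β x z : A) * g⁻¹ := by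
    intro g x z
    obtain ⟨f, rfl⟩ := QuotientGroup.mk_surjective x
    obtain ⟨h, rfl⟩ := QuotientGroup.mk_surjective z
    rw [hact, hact, hβ, hβ, MulAut.conjNormal_apply, MulAut.conjNormal_apply, commutatorElement_def,
      commutatorElement_def]
    group
  let S : Sympl G M A :=
    { β := β
      act := act
      Y1 := Subgroup.centralizer (A : Set G)
      alt := fun x => by
        obtain ⟨f, rfl⟩ := QuotientGroup.mk_surjective x
        exact Subtype.ext ((hβ f f).trans (commutatorElement_self _))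
      orth := fun g x z h => Subtype.ext (by rw [hβact, h]; simp)
      inv1 := fun g hg x z => Subtype.ext (by
        rw [hβact, ← Subgroup.mem_centralizer_iff.1 hg _ (β x z).2, mul_inv_cancel_right])
      sub := fun B hB x hxB hx => by
        obtain ⟨f, rfl⟩ := QuotientGroup.mk_surjective x
        let W : Subgroup G :=
          { carrier := {g | ∃ hg : g ∈ E, ((⟨g, hg⟩ : E) : M) ∈ B ∧
              ∀ z ∈ B, β ((⟨g, hg⟩ : E) : M) z = 1}
            one_mem' := ⟨E.one_mem, B.one_mem, fun z _ => DFunLike.congr_fun (map_one β) z⟩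
            mul_mem' := fun {g h} ⟨hg, hgB, hgz⟩ ⟨hh, hhB, hhz⟩ => ⟨E.mul_mem hg hh,
              show ((⟨g, hg⟩ * ⟨h, hh⟩ : E) : M) ∈ B from B.mul_mem hgB hhB, fun z hz => by
              show β (((⟨g, hg⟩ : E) : M) * ((⟨h, hh⟩ : E) : M)) z = 1
              rw [map_mul, MonoidHom.mul_apply, hgz z hz, hhz z hz, one_mul]⟩
            inv_mem' := fun {g} ⟨hg, hgB, hgz⟩ => ⟨E.inv_mem hg,
              show ((⟨g, hg⟩ : E) : M)⁻¹ ∈ B from B.inv_mem hgB, fun z hz => by
              show β ((⟨g, hg⟩ : E) : M)⁻¹ z = 1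
              rw [map_inv, MonoidHom.inv_apply, hgz z hz, inv_one]⟩ }
        have hWn : W.Normal := ⟨fun g hgW c => by
          obtain ⟨hg, hgB, hgz⟩ := hgW
          have e : (⟨c * g * c⁻¹, hEn.conj_mem g hg c⟩ : E) = MulAut.conjNormal c (⟨g, hg⟩ : E) :=
            Subtype.ext (by rw [MulAut.conjNormal_apply])
          refine ⟨hEn.conj_mem g hg c, ?_, fun z hz => ?_⟩
          · rw [e, ← hact]; exact hB c _ hgB
          · rw [e, ← hact]
            obtain ⟨z', hz', rfl⟩ : ∃ z' ∈ B, act c z' = z :=
              ⟨act c⁻¹ z, hB _ z hz, by rw [← MulAut.mul_apply, ← map_mul, mul_inv_cancel, map_one, MulAut.one_apply]⟩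
            exact Subtype.ext (by rw [hβact, hgz z' hz']; simp)⟩
        have hWc : IsMulCommutative W := ⟨⟨fun g h => by
          obtain ⟨hg, hgB, hgz⟩ := g.2
          obtain ⟨hh, hhB, hhz⟩ := h.2
          refine Subtype.ext (commutatorElement_eq_one_iff_mul_comm.1 ?_)
          exact (hβ ⟨_, hg⟩ ⟨_, hh⟩).symm.trans (congrArg Subtype.val (hgz _ hhB))⟩⟩
        have hAW : A ≤ W := fun y hy => by
          have e : ((⟨y, hAE hy⟩ : E) : M) = 1 :=
            (QuotientGroup.eq_one_iff _).2 (Subgroup.mem_subgroupOf.2 hy)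
          exact ⟨hAE hy, by rw [e]; exact B.one_mem, fun z _ => by rw [e, map_one, MonoidHom.one_apply]⟩
        have hfW : (f : G) ∈ W := ⟨f.2, hxB, hx⟩
        rw [hmax W hWn hWc hAW] at hfW
        exact (QuotientGroup.eq_one_iff _).2 (Subgroup.mem_subgroupOf.2 hfW) }
  have hnd : ∀ x : M, (∀ z, β x z = 1) → x = 1 := fun x h => S.nondeg h
  -- the centraliser of `A` and the automorphisms of the scalars
  let σ : G → (L →ₐ[F] L) := fun g =>
    { toFun := fun k => ⟨ρ g * k * ρ g⁻¹, hK.conj g k k.2⟩
      map_one' := Subtype.ext (by simp [← map_mul])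
      map_mul' := fun x y => Subtype.ext (by
        show ρ g * ((x : Module.End F V) * y) * ρ g⁻¹ = (ρ g * x * ρ g⁻¹) * (ρ g * y * ρ g⁻¹)
        simp only [mul_assoc]
        rw [← mul_assoc (ρ g⁻¹) (ρ g), ← map_mul, inv_mul_cancel, map_one, one_mul])
      map_zero' := Subtype.ext (by simp)
      map_add' := fun x y => Subtype.ext (by simp [mul_add, add_mul])
      commutes' := fun c => Subtype.ext (by
        show ρ g * algebraMap F (Module.End F V) c * ρ g⁻¹ = algebraMap F (Module.End F V) c
        rw [← (Algebra.commute_algebraMap_left c (ρ g)).eq, mul_assoc, ← map_mul, mul_inv_cancel,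
          map_one, mul_one]) }
  have hY1n : S.Y1.Normal := (inferInstance : (Subgroup.centralizer (A : Set G)).Normal)
  have hindex : S.Y1.index ≤ a := by
    haveI : Finite (L →ₐ[F] L) := Finite.of_injective _ DFunLike.coe_injective
    refine le_trans ?_ (card_algHom_le_finrank F L L)
    rw [Subgroup.index]
    refine Nat.card_le_card_of_injective (fun x : G ⧸ S.Y1 => σ x.out) fun x y h => ?_
    rw [← QuotientGroup.out_eq' x, ← QuotientGroup.out_eq' y]
    refine QuotientGroup.eq.2 ?_
    show x.out⁻¹ * y.out ∈ Subgroup.centralizer (A : Set G)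
    refine Subgroup.mem_centralizer_iff.2 fun c hc => hρ ?_
    have h1 : ρ (x.out * c * x.out⁻¹) = ρ (y.out * c * y.out⁻¹) := by
      have h3 := congrArg Subtype.val (DFunLike.congr_fun h (j ⟨c, hc⟩))
      rw [map_mul, map_mul, map_mul, map_mul]
      exact h3
    have h2 := hρ h1
    congr 1
    calc c * (x.out⁻¹ * y.out) = x.out⁻¹ * (x.out * c * x.out⁻¹) * y.out := by group
      _ = x.out⁻¹ * y.out * c := by rw [h2]; group
  have hker : S.act.ker ⊓ S.Y1 = E := by
    refine le_antisymm ?_ fun f hf => ⟨?_, Subgroup.mem_centralizer_iff.2 fun c hc => (hEC f hf c hc).symm⟩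
    · rintro g ⟨hg1, hg2⟩
      have hgA : ∀ c ∈ A, g * c = c * g := fun c hc => (Subgroup.mem_centralizer_iff.1 hg2 c hc).symm
      have hgf : ∀ f ∈ E, ⁅g, f⁆ ∈ A := fun f hf => by
        have h := DFunLike.congr_fun (show act g = 1 from hg1) ((⟨f, hf⟩ : E) : M)
        rw [hact, MulAut.one_apply, QuotientGroup.eq, Subgroup.mem_subgroupOf] at h
        simp only [Subgroup.coe_mul, Subgroup.coe_inv, MulAut.conjNormal_apply] at h
        have h2 := A.inv_mem (hAn.conj_mem _ h f)
        convert h2 using 1
        rw [commutatorElement_def]; group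
      obtain ⟨hfin, hle⟩ := card_hom_le M A
      have hbij : Function.Surjective (fun x : M => β x) := by
        have hi : Function.Injective (fun x : M => β x) :=
          (injective_iff_map_eq_one β).2 fun x hx => hnd x fun z => DFunLike.congr_fun hx z
        exact ((Nat.bijective_iff_injective_and_card _).2 ⟨hi,
          le_antisymm (Nat.card_le_card_of_injective _ hi) hle⟩).2
      let φ : M →* A := QuotientGroup.lift _
        ({ toFun := fun k => ⟨⁅g, (k : G)⁆, hgf k k.2⟩
           map_one' := Subtype.ext (by simp)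
           map_mul' := fun x y => Subtype.ext (by
             show ⁅g, (x : G) * y⁆ = ⁅g, (x : G)⁆ * ⁅g, (y : G)⁆
             have hc' := hEC x x.2 _ (hgf y y.2)
             have e : ⁅g, (x : G) * y⁆ = ⁅g, (x : G)⁆ * (x * ⁅g, (y : G)⁆ * (x : G)⁻¹) := by
               simp only [commutatorElement_def]; group
             rw [e, hc', mul_inv_cancel_right]) } : E →* A)
        (fun k hk => Subtype.ext (commutatorElement_eq_one_iff_mul_comm.2
          (hgA k (Subgroup.mem_subgroupOf.1 hk))))
      obtain ⟨x, hx⟩ := hbij φ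
      obtain ⟨f, rfl⟩ := QuotientGroup.mk_surjective x
      have hgf' : (f : G)⁻¹ * g ∈ A := by
        refine hself _ (fun c hc => ?_) fun h hh => ?_
        · rw [mul_assoc, hgA c hc, ← mul_assoc, ← mul_assoc, hEC _ (E.inv_mem f.2) c hc]
        · have e : ⁅(f : G), h⁆ = ⁅g, h⁆ :=
            congrArg Subtype.val (DFunLike.congr_fun hx ((⟨h, hh⟩ : E) : M))
          rw [commutatorElement_def, commutatorElement_def, mul_left_inj] at e
          have e2 := congrArg (fun z => (f : G)⁻¹ * z * g) e
          group at e2 ⊢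
          exact e2.symm
      rw [← mul_inv_cancel_left (f : G) g]
      exact E.mul_mem f.2 (hAE hgf')
    · refine MulEquiv.ext fun x => ?_
      obtain ⟨k, rfl⟩ := QuotientGroup.mk_surjective x
      show ((MulAut.conjNormal f k : E) : M) = (k : M)
      have : MulAut.conjNormal f k = ⟨f, hf⟩ * k * (⟨f, hf⟩ : E)⁻¹ := Subtype.ext (by
        simp [MulAut.conjNormal_apply])
      rw [this, QuotientGroup.mk_mul, QuotientGroup.mk_mul, QuotientGroup.mk_inv, mul_comm (_ : M),
        inv_mul_cancel_left]
  -- representatives are independent over the scalars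
  have hlin : ∀ f : E, ∀ (k : L) (v : V), ρ (f : G) (k • v) = k • ρ (f : G) v := fun f k v => by
    show ρ (f : G) ((k : Module.End F V) v) = (k : Module.End F V) (ρ (f : G) v)
    rw [← Module.End.mul_apply, commute_alg (hEC _ f.2) k.2, Module.End.mul_apply]
  let U : E → Module.End L V := fun f =>
    { toFun := ρ (f : G), map_add' := map_add _, map_smul' := hlin f }
  have hML : Nat.card M ≤ d * d := by
    haveI := Fintype.ofFinite M
    refine card_le_sq (fun x : M => U x.out) U
      (fun h v => ⟨ρ (h : G)⁻¹ v, PrimSol.apply_inv_cancel ρ _ v⟩)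
      (fun h x => j (β (h : M) x)) (fun h x v => ?_) (fun x y hxy => ?_) fun x hx => ?_
    · show ρ (h : G) (ρ (x.out : G) v) = ρ (β (h : M) x : G) (ρ (x.out : G) (ρ (h : G) v))
      rw [← QuotientGroup.out_eq' x, hβ, QuotientGroup.out_eq']
      simp only [← Module.End.mul_apply, ← map_mul]
      congr 2
      rw [commutatorElement_def]; group
    · by_contra hcon
      push Not at hcon
      refine hxy (mul_inv_eq_one.1 (hnd _ fun z => S.symm ?_))
      obtain ⟨h, rfl⟩ := QuotientGroup.mk_surjective z
      show β (h : M) (x * y⁻¹) = 1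
      rw [map_mul, map_inv, hj (hcon h), mul_inv_cancel]
    · obtain ⟨v, hv⟩ := exists_ne (0 : V)
      exact hv (PrimSol.apply_injective ρ (x.out : G)
        ((LinearMap.congr_fun hx v).trans (map_zero _).symm))
  have hscal : a = 1 → ∀ x ∈ A, ∃ c : F, ρ x = algebraMap F (Module.End F V) c := fun h x hx => by
    have hbot : L = ⊥ := Subalgebra.finrank_eq_one_iff.1 h
    have h2 : ρ x ∈ L := Algebra.subset_adjoin ⟨x, hx, rfl⟩
    rw [hbot, Algebra.mem_bot] at h2
    obtain ⟨c, hc⟩ := h2
    exact ⟨c, hc.symm⟩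
  have hconj : ∀ g, (∀ f ∈ E, ⁅g, f⁆ ∈ A) → act g = 1 := fun g hg => MulEquiv.ext fun z => by
    obtain ⟨f, rfl⟩ := QuotientGroup.mk_surjective z
    rw [hact, MulAut.one_apply, QuotientGroup.eq, Subgroup.mem_subgroupOf]
    simp only [Subgroup.coe_mul, Subgroup.coe_inv, MulAut.conjNormal_apply]
    have h2 := hAn.conj_mem _ (A.inv_mem (hg f f.2)) (f : G)⁻¹
    convert h2 using 1
    rw [commutatorElement_def]; group
  refine ⟨{
    a := a
    d := d
    A := A
    E := E
    M := M
    C := A
    S := S
    a_pos := hapos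
    d_pos := hdpos
    dim := hdim
    A_comm := hcomm
    card_A := hcardA
    card_A_dvd := hdvdA
    A_le := hAE
    E_normal := hEn
    E_nilp := nilpotent_of_central hAE hEC hEd
    E_der := hEd
    A_normal := hAn
    E_central := hEC
    cent_eq := rfl
    Y1_normal := hY1n
    Y1_index := hindex
    act_ker := hker
    card_M := rfl
    M_le := hML
    M_sqfree := fun x => ?_
    M_prime := fun l hl hlM => ?_ }, hscal, hself, hconj⟩
  · obtain ⟨f, rfl⟩ := QuotientGroup.mk_surjective x
    obtain ⟨n, hn, hfn⟩ := hEx f f.2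
    refine ⟨n, hn, ?_⟩
    rw [← QuotientGroup.mk_pow, QuotientGroup.eq_one_iff, Subgroup.mem_subgroupOf]
    exact hfn
  · haveI := Fact.mk hl
    obtain ⟨x, hx⟩ := exists_prime_orderOf_dvd_card' l hlM
    obtain ⟨z, hz⟩ : ∃ z, β x z ≠ 1 := by
      by_contra hcon
      push Not at hcon
      have := hnd x hcon
      rw [this, orderOf_one] at hx
      exact hl.ne_one hx.symm
    have hord : orderOf (β x z) = l := orderOf_eq_prime (by
      rw [← MonoidHom.pow_apply, ← map_pow, ← hx, pow_orderOf_eq_one, map_one, MonoidHom.one_apply]) hz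
    exact (hord ▸ orderOf_dvd_natCard _).trans hdvdA

/-- The data exist. -/
theorem exists_primData (hρ : Function.Injective ρ) (hirr : Irred ρ) (hprim : NoDecomp ρ)
    (hsol : Group.IsSolvable G) :
    Nonempty (PrimData G (Nat.card F) (Module.finrank F V)) :=
  let ⟨P, _⟩ := exists_primData_ext ρ hρ hirr hprim hsol
  ⟨P⟩

end Build

end Cfsg.Agent.SolClasses
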