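import Cfsg.Agent.Lib.Solvable.Primitive
import Cfsg.Agent.Lib.Solvable.Basic
import Mathlib.GroupTheory.GroupAction.Quotient
import Mathlib.Data.Nat.Factorial.Basic
import Mathlib.Data.Nat.Log
import Mathlib.Data.Fintype.CardEmbedding

/-!
# Orders of soluble permutation groups

A soluble group acting on `n` points induces a group of order at most `3 ^ (n - 1)`.
-/

set_option autoImplicit false
set_option linter.style.haveILetI false
set_option linter.unusedSectionVars false

namespace Cfsg.Agent.SolClasses

universe u v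

theorem exists_small_gens {G : Type u} [Group G] [Finite G] :
    ∀ H : Subgroup G, ∃ S : Finset G, Subgroup.closure (S : Set G) = H ∧ 2 ^ S.card ≤ Nat.card H := by
  classical
  intro H
  haveI := Fintype.ofFinite G
  let P : Finset G → Prop := fun S =>
    Subgroup.closure (S : Set G) ≤ H ∧ 2 ^ S.card ≤ Nat.card (Subgroup.closure (S : Set G))
  obtain ⟨S, hS, hmax⟩ := Finset.exists_max_image (Finset.univ.filter P)
    (fun S : Finset G => Nat.card (Subgroup.closure (S : Set G)))
    ⟨∅, Finset.mem_filter.2 ⟨Finset.mem_univ _, by simp, by simp⟩⟩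
  obtain ⟨hle, hc⟩ := (Finset.mem_filter.1 hS).2
  refine ⟨S, le_antisymm hle fun x hx => ?_, hc.trans (Subgroup.card_le_of_le hle)⟩
  by_contra hx'
  set K := Subgroup.closure (S : Set G)
  set K' := Subgroup.closure (((insert x S : Finset G)) : Set G) with hK'
  have hKK : K ≤ K' := Subgroup.closure_mono (by simp)
  have hne : K ≠ K' := fun h => hx' (h ▸ Subgroup.subset_closure (by simp))
  have h2 : 2 * Nat.card K ≤ Nat.card K' := by
    obtain ⟨k, hk⟩ := Subgroup.card_dvd_of_le hKK
    rcases k with _ | _ | k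
    · rw [mul_zero] at hk; exact absurd hk Nat.card_pos.ne'
    · exact absurd (Subgroup.eq_of_le_of_card_ge hKK (by rw [hk]; simp)) hne
    · rw [hk]; nlinarith
  have hmem : P (insert x S) := by
    refine ⟨(Subgroup.closure_le _).2 ?_, ?_⟩
    · intro y hy
      rcases Finset.mem_insert.1 (Finset.mem_coe.1 hy) with rfl | hy
      · exact hx
      · exact hle (Subgroup.subset_closure hy)
    · refine le_trans ?_ h2
      calc 2 ^ (insert x S).card ≤ 2 ^ (S.card + 1) :=
            Nat.pow_le_pow_right (by norm_num) (Finset.card_insert_le _ _)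
        _ = 2 * 2 ^ S.card := by rw [pow_succ, mul_comm]
        _ ≤ 2 * Nat.card K := Nat.mul_le_mul le_rfl hc
  have h3 := hmax _ (Finset.mem_filter.2 ⟨Finset.mem_univ _, hmem⟩)
  have := Nat.card_pos (α := K)
  change Nat.card K' ≤ Nat.card K at h3
  omega

theorem numeric {n j : ℕ} (h : 2 ^ j ≤ n) : n * (n - 1).descFactorial j ≤ 3 ^ (n - 1) := by
  rcases lt_or_ge n 64 with hn | hn
  · have hj : j < 6 := by
      by_contra h'
      exact absurd (le_trans (Nat.pow_le_pow_right (by norm_num) (not_lt.1 h')) h) (by norm_num; omega)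
    have key : ∀ a : Fin 64, ∀ b : Fin 6, 2 ^ (b : ℕ) ≤ (a : ℕ) →
        (a : ℕ) * ((a : ℕ) - 1).descFactorial b ≤ 3 ^ ((a : ℕ) - 1) := by decide +kernel
    exact key ⟨n, hn⟩ ⟨j, hj⟩ h
  · set L := Nat.log 2 n with hL
    have h6 : 6 ≤ L := Nat.le_log_of_pow_le (by norm_num) (by norm_num; omega)
    have hjL : j ≤ L := Nat.le_log_of_pow_le (by norm_num) h
    have hlo : 2 ^ L ≤ n := Nat.pow_log_le_self 2 (by omega)
    have hhi : n ≤ 2 ^ (L + 1) := (Nat.lt_pow_succ_log_self (by norm_num) n).le
    have hsq : ∀ m, (m + 6 + 1) * (m + 6 + 1) + 1 ≤ 2 ^ (m + 6) := by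
      intro m
      induction m with
      | zero => norm_num
      | succ m ih =>
        rw [show m + 1 + 6 = m + 6 + 1 by omega, pow_succ]
        nlinarith
    have h7 : (L + 1) * (L + 1) + 1 ≤ 2 ^ L := by
      obtain ⟨m, hm⟩ := Nat.exists_eq_add_of_le' h6
      rw [hm]; exact hsq m
    calc n * (n - 1).descFactorial j ≤ n * (n - 1) ^ j :=
          Nat.mul_le_mul le_rfl (Nat.descFactorial_le_pow _ _)
      _ ≤ n * n ^ j := Nat.mul_le_mul le_rfl (Nat.pow_le_pow_left (Nat.sub_le n 1) j)
      _ = n ^ (j + 1) := by rw [pow_succ, mul_comm]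
      _ ≤ n ^ (L + 1) := Nat.pow_le_pow_right (by omega) (by omega)
      _ ≤ (2 ^ (L + 1)) ^ (L + 1) := Nat.pow_le_pow_left hhi _
      _ = 2 ^ ((L + 1) * (L + 1)) := by rw [← pow_mul]
      _ ≤ 2 ^ (n - 1) := Nat.pow_le_pow_right (by norm_num) (by omega)
      _ ≤ 3 ^ (n - 1) := Nat.pow_le_pow_left (by norm_num) _

/-- The primitive case. -/
theorem primitive_le {G : Type u} [Group G] [Finite G] (hsol : Group.IsSolvable G) {U : Subgroup G}
    (hU : IsCoatom U) (hcore : U.normalCore = ⊥) : Nat.card G ≤ 3 ^ (U.index - 1) := by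
  classical
  haveI := hsol
  haveI : Nontrivial G := by
    by_contra h
    rw [not_nontrivial_iff_subsingleton] at h
    exact hU.1 (Subsingleton.elim _ _)
  obtain ⟨N, -, -, hNn, hN, -, hNc, -⟩ := SolvBasic.exists_minimal_normal_abelian
    (N := (⊤ : Subgroup G)) inferInstance (by exact top_ne_bot)
  haveI := hNn
  haveI := hNc
  have hcompl := SolvPrim.complement_of_abelian hU hcore hN
  have hn : Nat.card N = U.index := hcompl.index_eq_card.symm
  have hcard : Nat.card G = Nat.card N * Nat.card U := hcompl.card_mul_card.symm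
  obtain ⟨S, hS, h2⟩ := exists_small_gens N
  haveI := Fintype.ofFinite N
  set S' := S.erase 1 with hS'
  have hS'N : ∀ s ∈ S', s ∈ N ∧ s ≠ 1 := fun s hs =>
    ⟨hS ▸ Subgroup.subset_closure (Finset.mem_of_mem_erase hs), (Finset.mem_erase.1 hs).1⟩
  let X := {y : N // y ≠ 1}
  let Φ : U → (S' ↪ X) := fun u =>
    ⟨fun s => ⟨⟨(u : G) * s * (u : G)⁻¹, hNn.conj_mem _ (hS'N _ s.2).1 _⟩, fun h => (hS'N _ s.2).2 (by
        have := congrArg Subtype.val h
        simpa using this)⟩,
      fun s t h => by
        have := congrArg (fun z : X => ((z : N) : G)) h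
        exact Subtype.ext (by simpa using this)⟩
  have hΦ : Function.Injective Φ := by
    intro u v h
    have hc : ∀ s ∈ S', ((v : G)⁻¹ * u) * s = s * ((v : G)⁻¹ * u) := by
      intro s hs
      have := congrArg (fun f : S' ↪ X => ((f ⟨s, hs⟩ : N) : G)) h
      change (u : G) * s * (u : G)⁻¹ = v * s * (v : G)⁻¹ at this
      calc (v : G)⁻¹ * u * s = (v : G)⁻¹ * (u * s * (u : G)⁻¹) * u := by group
        _ = _ := by rw [this]; group
    have hcN : (v : G)⁻¹ * u ∈ Subgroup.centralizer (N : Set G) ⊓ U := by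
      refine ⟨?_, U.mul_mem (U.inv_mem v.2) u.2⟩
      rw [← hS, Subgroup.centralizer_closure]
      intro s hs
      by_cases h1 : s = 1
      · simp [h1]
      · exact (hc s (Finset.mem_erase.2 ⟨h1, hs⟩)).symm
    rw [SolvPrim.centralizer_inf_eq_bot hU hcore hN, Subgroup.mem_bot, inv_mul_eq_one] at hcN
    exact Subtype.ext hcN.symm
  have hU' : Nat.card U ≤ (U.index - 1).descFactorial S'.card := by
    have h := Nat.card_le_card_of_injective Φ hΦ
    rw [Nat.card_eq_fintype_card (α := S' ↪ X), Fintype.card_embedding_eq, Fintype.card_coe,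
      Fintype.card_subtype_compl, Fintype.card_subtype_eq, ← Nat.card_eq_fintype_card, hn] at h
    exact h
  rw [hcard, hn]
  refine (Nat.mul_le_mul le_rfl hU').trans (numeric (le_trans ?_ (hn ▸ h2)))
  exact Nat.pow_le_pow_right (by norm_num) (Finset.card_le_card (Finset.erase_subset _ _))

theorem normalCore_index_mul {G : Type u} [Group G] [Finite G] {U : Subgroup G} :
    U.normalCore.index = Nat.card (MulAction.toPermHom G (G ⧸ U)).range := by
  rw [Subgroup.normalCore_eq_ker, Subgroup.index_ker]

/-- A soluble transitive permutation group of degree `n` has order at most `3 ^ (n - 1)`. -/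
theorem coset_le : ∀ (n : ℕ) (G : Type u) [Group G] [Finite G], Group.IsSolvable G →
    ∀ U : Subgroup G, U.index = n → U.normalCore.index ≤ 3 ^ (n - 1) := by
  intro n
  induction n using Nat.strong_induction_on with
  | _ n ih =>
  intro G _ _ hsol U hn
  classical
  haveI := hsol
  rcases eq_or_ne U ⊤ with rfl | hU
  · have h : (⊤ : Subgroup G).normalCore = ⊤ :=
      top_le_iff.1 (Subgroup.normal_le_normalCore.2 le_rfl)
    rw [h, Subgroup.index_top]
    exact Nat.one_le_pow _ _ (by norm_num)
  obtain ⟨M, hM, hUM⟩ := (eq_top_or_exists_le_coatom U).resolve_left hU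
  rcases eq_or_lt_of_le hUM with rfl | hlt
  · -- primitive
    set π := QuotientGroup.mk' U.normalCore
    have hπ : Function.Surjective π := QuotientGroup.mk'_surjective _
    have hker : π.ker ≤ U := by rw [QuotientGroup.ker_mk']; exact U.normalCore_le
    have hidx : (U.map π).index = n := by
      rw [Subgroup.index_map_eq _ hπ hker, hn]
    have hco : IsCoatom (U.map π) := by
      refine ⟨fun h => hM.1 ?_, fun K hK => ?_⟩
      · rw [← Subgroup.comap_map_eq_self hker, h, Subgroup.comap_top]
      · have h1 : U < K.comap π :=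
          (Subgroup.comap_map_eq_self hker).symm.trans_lt ((Subgroup.comap_lt_comap_of_surjective hπ).2 hK)
        rw [← Subgroup.map_comap_eq_self_of_surjective hπ K, hM.2 _ h1,
          Subgroup.map_top_of_surjective _ hπ]
    have hcf : (U.map π).normalCore = ⊥ := by
      rw [eq_bot_iff]
      intro x hx
      obtain ⟨g, rfl⟩ := hπ x
      rw [Subgroup.mem_bot]
      have hle : (U.map π).normalCore.comap π ≤ U.normalCore :=
        Subgroup.normal_le_normalCore.2 ((Subgroup.comap_mono (U.map π).normalCore_le).trans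
          (Subgroup.comap_map_eq_self hker).le)
      exact (QuotientGroup.eq_one_iff g).2 (hle hx)
    have := primitive_le (inferInstance : Group.IsSolvable (G ⧸ U.normalCore)) hco hcf
    rw [hidx] at this
    exact this
  -- blocks
  have hmul : U.relIndex M * M.index = n := (Subgroup.relIndex_mul_index hUM).trans hn
  have hb2 : 2 ≤ U.relIndex M := by
    have h0 : U.relIndex M ≠ 0 := fun h => by
      rw [h, zero_mul] at hmul
      exact Subgroup.index_ne_zero_of_finite (hn.trans hmul.symm)
    have h1 : U.relIndex M ≠ 1 := fun h => absurd (Subgroup.relIndex_eq_one.1 h) hlt.not_ge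
    omega
  have ha2 : 2 ≤ M.index := by
    have h0 : M.index ≠ 0 := Subgroup.index_ne_zero_of_finite
    have h1 : M.index ≠ 1 := fun h => hM.1 (Subgroup.index_eq_one.1 h)
    omega
  have han : M.index < n := by rw [← hmul]; exact lt_mul_of_one_lt_left (by omega) hb2
  have hbn : U.relIndex M < n := by rw [← hmul]; exact lt_mul_of_one_lt_right (by omega) ha2
  have hA := ih _ han G hsol M rfl
  have hB := ih _ hbn M inferInstance (U.subgroupOf M) rfl
  set K := M.normalCore
  have hKM : K ≤ M := M.normalCore_le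
  set C := (U.subgroupOf M).normalCore
  haveI := Fintype.ofFinite (G ⧸ M)
  let f : K →* ((G ⧸ M) → (M ⧸ C)) :=
    MonoidHom.pi fun q => (QuotientGroup.mk' C).comp
      ((Subgroup.inclusion hKM).comp (MulAut.conjNormal (H := K) (Quotient.out q)⁻¹).toMonoidHom)
  have hfker : f.ker ≤ U.normalCore.subgroupOf K := by
    intro k hk
    rw [Subgroup.mem_subgroupOf]
    intro g
    set x := Quotient.out ((g⁻¹ : G) : G ⧸ M) with hx
    have hxg : x⁻¹ * g⁻¹ ∈ M := by
      rw [← QuotientGroup.eq, hx]
      exact Quotient.out_eq _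
    have h : Subgroup.inclusion hKM (MulAut.conjNormal (H := K) x⁻¹ k) ∈ C :=
      (QuotientGroup.eq_one_iff _).1 (congrFun hk ((g⁻¹ : G) : G ⧸ M))
    have h2 := h ⟨(x⁻¹ * g⁻¹)⁻¹, M.inv_mem hxg⟩
    rw [Subgroup.mem_subgroupOf] at h2
    simp only [Subgroup.coe_mul, Subgroup.coe_inv, Subgroup.coe_inclusion,
      MulAut.conjNormal_apply, inv_inv] at h2
    convert h2 using 1
    group
  have hrange : Nat.card f.range ≤ (3 ^ (U.relIndex M - 1)) ^ M.index := by
    refine (Subgroup.card_le_card_group _).trans ?_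
    rw [Nat.card_pi, Finset.prod_const, Finset.card_univ, ← Nat.card_eq_fintype_card]
    exact Nat.pow_le_pow_left hB _
  have hKi : U.normalCore.relIndex K ≤ (3 ^ (U.relIndex M - 1)) ^ M.index := by
    refine le_trans ?_ hrange
    rw [← Subgroup.index_ker]
    exact Nat.le_of_dvd (Nat.pos_of_ne_zero Subgroup.index_ne_zero_of_finite)
      (Subgroup.index_dvd_of_le hfker)
  rw [← Subgroup.relIndex_mul_index (Subgroup.normalCore_mono hUM)]
  refine (Nat.mul_le_mul hKi hA).trans ?_
  rw [← pow_mul, ← pow_add]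
  refine Nat.pow_le_pow_right (by norm_num) ?_
  rw [← hmul, Nat.sub_mul, one_mul]
  have : M.index ≤ U.relIndex M * M.index := Nat.le_mul_of_pos_left _ (by omega)
  omega

/-- A soluble group acting on `n` points induces a group of order at most `3 ^ (n - 1)`. -/
theorem range_le {G : Type u} [Group G] [Finite G] (hsol : Group.IsSolvable G) (Ω : Type v)
    [Finite Ω] [MulAction G Ω] :
    Nat.card (MulAction.toPermHom G Ω).range ≤ 3 ^ (Nat.card Ω - 1) := by
  classical
  haveI := Fintype.ofFinite Ω
  let Q := MulAction.orbitRel.Quotient G Ω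
  haveI := Fintype.ofFinite Q
  let st : Q → Subgroup G := fun q => MulAction.stabilizer G q.out
  let f : G →* ((q : Q) → G ⧸ (st q).normalCore) :=
    MonoidHom.pi fun q => QuotientGroup.mk' (st q).normalCore
  have hker : f.ker ≤ (MulAction.toPermHom G Ω).ker := by
    intro g hg
    refine Equiv.ext fun a => ?_
    show g • a = a
    set q : Q := Quotient.mk'' a
    obtain ⟨h, hh⟩ : a ∈ MulAction.orbit G q.out := by
      have := Quotient.mk_out' (s₁ := MulAction.orbitRel G Ω) a
      exact (MulAction.orbitRel G Ω).symm this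
    have h1 : g ∈ (st q).normalCore := by
      have := congrFun hg q
      exact (QuotientGroup.eq_one_iff g).1 this
    have h2 := MulAction.mem_stabilizer_iff.1 (h1 h⁻¹)
    rw [inv_inv, mul_smul, mul_smul, inv_smul_eq_iff] at h2
    change h • q.out = a at hh
    rw [← hh]; exact h2
  rw [← Subgroup.index_ker]
  refine (Nat.le_of_dvd (Nat.pos_of_ne_zero Subgroup.index_ne_zero_of_finite)
    (Subgroup.index_dvd_of_le hker)).trans ?_
  rw [Subgroup.index_ker]
  refine (Subgroup.card_le_card_group _).trans ?_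
  rw [Nat.card_pi]
  refine (Finset.prod_le_prod' fun q _ => coset_le _ G hsol (st q) rfl).trans ?_
  rw [Finset.prod_pow_eq_pow_sum]
  refine Nat.pow_le_pow_right (by norm_num) ?_
  rcases isEmpty_or_nonempty Q with hQ | hQ
  · simp
  have hsum : ∑ q : Q, (st q).index = Nat.card Ω := by
    rw [Nat.card_congr (MulAction.selfEquivSigmaOrbits' G Ω), Nat.card_sigma]
    exact Finset.sum_congr rfl fun q _ => by
      show (MulAction.stabilizer G q.out).index = _
      rw [MulAction.index_stabilizer, ← Nat.card_coe_set_eq]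
      exact congrArg (fun s : Set Ω => Nat.card s)
        (MulAction.orbitRel.Quotient.orbit_eq_orbit_out q Quotient.out_eq').symm
  have hpos : ∀ q : Q, 1 ≤ (st q).index := fun q => Nat.pos_of_ne_zero Subgroup.index_ne_zero_of_finite
  have h3 : ∑ q : Q, ((st q).index - 1) + Fintype.card Q = Nat.card Ω := by
    rw [← hsum, Finset.card_univ.symm, Finset.card_eq_sum_ones, ← Finset.sum_add_distrib]
    exact Finset.sum_congr rfl fun q _ => Nat.sub_add_cancel (hpos q)
  have := Fintype.card_pos (α := Q)
  omega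

end Cfsg.Agent.SolClasses
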