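import Cfsg.Agent.Lib.SolClasses.Sixteen

/-!
# Classes of soluble groups of similitudes
-/

set_option autoImplicit false
set_option linter.style.haveILetI false
set_option linter.unusedSectionVars false

namespace Cfsg.Agent.SolClasses

open PrimSol SolBase

universe u v

theorem pow_six_le : ∀ {e : ℕ}, 16 ≤ e → e ^ 6 ≤ 5 * 3 ^ (e - 1) := by
  intro e he
  obtain ⟨k, rfl⟩ := Nat.exists_eq_add_of_le' he
  rw [show k + 16 - 1 = k + 15 by omega]
  induction k with
  | zero => norm_num
  | succ k ih =>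
    have h1 : (k + 1 + 16) * 16 ≤ (k + 16) * 17 := by omega
    have h2 := Nat.pow_le_pow_left h1 6
    rw [mul_pow, mul_pow] at h2
    have aux : ∀ A B : ℕ, A * 16 ^ 6 ≤ B * 17 ^ 6 → A ≤ 3 * B := fun A B h => by
      norm_num at h
      omega
    have h3 := aux ((k + 1 + 16) ^ 6) ((k + 16) ^ 6) h2
    rw [show k + 1 + 15 = (k + 15) + 1 by omega, pow_succ 3 (k + 15)]
    have h4 := ih (Nat.le_add_left 16 k)
    calc (k + 1 + 16) ^ 6 ≤ 3 * (k + 16) ^ 6 := h3
      _ ≤ 3 * (5 * 3 ^ (k + 15)) := Nat.mul_le_mul_left _ h4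
      _ = 5 * (3 ^ (k + 15) * 3) := by ring

/-- The similitudes of multiplier one have few classes. -/
theorem kb_img : ∀ (n : ℕ) (Y M C : Type u) [Group Y] [Finite Y] [CommGroup M] [CommGroup C] [Finite M]
    [Finite C] [IsCyclic C] (S : Sympl Y M C), Nat.card M = n → Group.IsSolvable Y →
    (∀ x : M, ∃ k : ℕ, Squarefree k ∧ x ^ k = 1) →
    ∃ e, e * e = n ∧ KB (⊥ : Subgroup S.img) (3 ^ (e - 1)) := by
  intro n
  induction n using Nat.strong_induction_on with
  | _ n ih =>
  intro Y M C _ _ _ _ _ _ _ S hn hY hsq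
  classical
  haveI := hY
  haveI : Finite (MulAut M) := Finite.of_injective _ DFunLike.coe_injective
  rcases eq_or_ne n 1 with rfl | hn1
  · haveI : Subsingleton M := (Nat.card_eq_one_iff_unique.1 hn).1
    haveI : Subsingleton (MulAut M) := ⟨fun f g => MulEquiv.ext fun _ => Subsingleton.elim _ _⟩
    exact ⟨1, rfl, kb_of_card (Nat.card_unique (α := S.img)).le⟩
  have hnpos : 0 < n := hn ▸ Nat.card_pos
  by_cases hred : ∃ B : Subgroup M, (∀ y : Y, ∀ x ∈ B, S.act y x ∈ B) ∧ B ≠ ⊥ ∧ B ≠ ⊤
  · obtain ⟨B, hB, hbot, htop⟩ := hred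
    obtain ⟨-, h2, hmul⟩ := S.isComplement hB
    have hperp : S.perp B ≠ ⊥ := fun e => htop (by rwa [e, sup_bot_eq] at h2)
    have hb1 : 1 < Nat.card B := (Subgroup.one_lt_card_iff_ne_bot B).2 hbot
    have hb2 : 1 < Nat.card (S.perp B) := (Subgroup.one_lt_card_iff_ne_bot _).2 hperp
    have hlt1 : Nat.card B < n := by rw [← hn, hmul]; exact lt_mul_right (by omega) hb2
    have hlt2 : Nat.card (S.perp B) < n := by rw [← hn, hmul]; exact lt_mul_left (by omega) hb1
    have hsqB : ∀ (B' : Subgroup M) (x : B'), ∃ k : ℕ, Squarefree k ∧ x ^ k = 1 := fun B' x => by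
      obtain ⟨k, hk, hk'⟩ := hsq x
      exact ⟨k, hk, Subtype.ext (by simpa using hk')⟩
    obtain ⟨e1, he1, hk1⟩ := ih _ hlt1 Y B C (S.restrict B hB) rfl hY (hsqB B)
    obtain ⟨e2, he2, hk2⟩ := ih _ hlt2 Y (S.perp B) C (S.restrict _ (S.perp_inv hB)) rfl hY (hsqB _)
    refine ⟨e1 * e2, by rw [← hn, hmul, ← he1, ← he2]; ring, ?_⟩
    haveI : Finite (MulAut B) := Finite.of_injective _ DFunLike.coe_injective
    haveI : Finite (MulAut (S.perp B)) := Finite.of_injective _ DFunLike.coe_injective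
    refine (kb_two (U := ⊥) (a := 3 ^ (e1 - 1)) (b := 3 ^ (e2 - 1))
      ((S.imgRestrict hB).codRestrict _ (S.imgRestrict_mem hB))
      ((S.imgRestrict (S.perp_inv hB)).codRestrict _ (S.imgRestrict_mem (S.perp_inv hB)))
      (fun g h1 h2 => S.imgRestrict_joint hB g (congrArg Subtype.val h1) (congrArg Subtype.val h2))
      (hk1.mono bot_le le_rfl) hk2 bot_le).mono bot_le ?_
    rw [← pow_add]
    refine Nat.pow_le_pow_right (by norm_num) ?_
    have p1 : 1 ≤ e1 := Nat.one_le_iff_ne_zero.2 fun e => by rw [e] at he1; omega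
    have p2 : 1 ≤ e2 := Nat.one_le_iff_ne_zero.2 fun e => by rw [e] at he2; omega
    obtain ⟨a, rfl⟩ := Nat.exists_eq_add_of_le' p1
    obtain ⟨b, rfl⟩ := Nat.exists_eq_add_of_le' p2
    rw [add_mul, mul_add, one_mul]
    omega
  · push Not at hred
    have hirrM : ∀ B : Subgroup M, (∀ f ∈ S.act.range, ∀ x ∈ B, f x ∈ B) → B = ⊥ ∨ B = ⊤ := by
      intro B hB
      by_cases hb : B = ⊥
      · exact Or.inl hb
      · exact Or.inr (hred B (fun y x hx => hB _ ⟨y, rfl⟩ x hx) hb)
    obtain ⟨p, hp, hpd⟩ := Nat.exists_prime_and_dvd hn1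
    haveI := Fact.mk hp
    obtain ⟨x0, hx0⟩ := exists_prime_orderOf_dvd_card' (G := M) p (hn ▸ hpd)
    have hexp : ∀ x : M, x ^ p = 1 := by
      let T : Subgroup M := (powMonoidHom p).ker
      have hT : T = ⊤ := (hirrM T fun f _ x hx => by
          show (f x) ^ p = 1
          rw [← map_pow, show x ^ p = 1 from hx, map_one]).resolve_left fun e => by
        have : x0 ∈ T := by show x0 ^ p = 1; rw [← hx0]; exact pow_orderOf_eq_one x0
        rw [e, Subgroup.mem_bot] at this
        rw [this, orderOf_one] at hx0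
        exact hp.ne_one hx0.symm
      exact fun x => (hT ▸ Subgroup.mem_top x : x ∈ T)
    obtain ⟨m, hm⟩ := S.card_square hp (Nat.card M) ⊤ Subgroup.card_top (fun x _ => hexp x)
      fun x _ hx => S.nondeg fun z => hx z trivial
    rw [hn] at hm
    subst hm
    have hm0 : 0 < m := Nat.pos_of_ne_zero fun e => hn1 (by rw [e]; rfl)
    refine ⟨p ^ m, by rw [← pow_add, two_mul], ?_⟩
    rcases (show m = 1 ∨ 2 ≤ m by omega) with rfl | hm2
    · rw [pow_one]
      exact kb_plane hp (by rw [hn]; ring) hexp S.img.subtype Subtype.val_injective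
    haveI : Module (ZMod p) (Additive M) := AddCommGroup.zmodModule fun x => hexp (Additive.toMul x)
    haveI : Module.Finite (ZMod p) (Additive M) := Module.Finite.of_finite
    haveI : Nontrivial M := Finite.one_lt_card_iff_nontrivial.1 (hn ▸ Nat.one_lt_pow (by omega) hp.one_lt)
    have hr := finrank_additive (M := M) (p := p) (k := 2 * m) hn
    have hs : Group.IsSolvable S.act.range := Group.isSolvable_of_surjective S.act.rangeRestrict_surjective
    let L := linHom (M := M) p
    let τ := L.comp S.act.range.subtype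
    have hτ : Function.Injective τ := (linHom_injective p).comp Subtype.val_injective
    have hirr : Irred τ := linHom_irred p _ hirrM
    suffices h : KB (⊥ : Subgroup S.act.range) (3 ^ (p ^ m - 1)) from
      h.of_injective (Subgroup.inclusion (Subgroup.map_le_range _ _)) (Subgroup.inclusion_injective _) bot_le
    by_cases h16 : 16 ≤ p ^ m
    · refine kb_of_card ?_
      obtain ⟨x, y, z, hxyz⟩ := three_irred (2 * m) (Additive M) S.act.range τ hr hτ hirr hs
      obtain ⟨q, hq⟩ := five_triples τ hτ hs hxyz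
      let Φ : Fin 5 × S.act.range → (Fin 3 → Additive M) := fun z k => (τ z.2 : Additive M →ₗ[ZMod p] Additive M) (q z.1 k)
      have hΦ : Function.Injective Φ := by
        rintro ⟨i, h⟩ ⟨j, h'⟩ e
        have e' : ∀ k, (τ h : Additive M →ₗ[ZMod p] Additive M) (q i k) =
            (τ h' : Additive M →ₗ[ZMod p] Additive M) (q j k) := fun k => congrFun e k
        obtain ⟨rfl, h1⟩ := hq i j (h'⁻¹ * h) fun k => by
          rw [map_mul, Module.End.mul_apply, e', inv_apply_cancel]
        rw [← inv_mul_eq_one.1 h1]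
      have h1 := Nat.card_le_card_of_injective Φ hΦ
      rw [Nat.card_prod, Nat.card_fun, Nat.card_fin, Nat.card_fin, ← Nat.card_congr (Additive.ofMul (α := M)), hn,
        ← pow_mul, show 2 * m * 3 = m * 6 by ring, pow_mul] at h1
      have h2 := pow_six_le h16
      omega
    · have hcase : (p = 2 ∧ m = 2) ∨ (p = 2 ∧ m = 3) ∨ (p = 3 ∧ m = 2) := by
        have h1 : p ^ 2 ≤ p ^ m := Nat.pow_le_pow_right hp.pos hm2
        have hp4 : p < 4 := by nlinarith
        have hp2 := hp.two_le
        interval_cases p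
        · have : m < 4 := (Nat.pow_lt_pow_iff_right (by norm_num)).1 (show 2 ^ m < 2 ^ 4 by omega)
          omega
        · have : m < 3 := (Nat.pow_lt_pow_iff_right (by norm_num)).1 (show 3 ^ m < 3 ^ 3 by omega)
          omega
      rcases hcase with ⟨rfl, rfl⟩ | ⟨rfl, rfl⟩ | ⟨rfl, rfl⟩
      · exact kb_sixteen hτ hirr hs (Nat.card_zmod 2) hr
      · exact kb_of_card (irred_six_two.{u} (Nat.card_zmod 2) (Additive M) _ τ hr hτ hirr hs)
      · exact kb_of_card (irred_four_three.{u} (Nat.card_zmod 3) (Additive M) _ τ hr hτ hirr hs)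

end Cfsg.Agent.SolClasses
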