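import Cfsg.Agent.Lib.SolClasses.Good
import Cfsg.Agent.Lib.SolClasses.Symp
import Cfsg.Agent.Lib.SolClasses.PermBound

/-!
# Soluble linear groups in coprime characteristic
-/

set_option autoImplicit false
set_option linter.style.haveILetI false
set_option linter.unusedSectionVars false

namespace Cfsg.Agent.SolClasses

open PrimSol SolBase

universe v w

variable {F : Type w} [Field F] [Finite F]

theorem exists_complement {V : Type v} [AddCommGroup V] [Module F V] {G : Type v} [Group G] [Finite G]
    (ρ : G →* Module.End F V) (hG : (Nat.card G : F) ≠ 0) {W : Submodule F V}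
    (hW : ∀ g, ∀ x ∈ W, ρ g x ∈ W) :
    ∃ W' : Submodule F V, (∀ g, ∀ x ∈ W', ρ g x ∈ W') ∧ IsCompl W W' := by
  classical
  haveI := Fintype.ofFinite G
  obtain ⟨π₀, hπ₀⟩ := LinearMap.exists_extend (LinearMap.id : W →ₗ[F] W)
  set π : Module.End F V := W.subtype ∘ₗ π₀ with hπ
  have hπid : ∀ w ∈ W, π w = w := fun w hw =>
    congrArg Subtype.val (LinearMap.congr_fun hπ₀ ⟨w, hw⟩)
  have hπmem : ∀ v, π v ∈ W := fun v => (π₀ v).2
  set P : Module.End F V := (Nat.card G : F)⁻¹ • ∑ g : G, ρ g * π * ρ g⁻¹ with hP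
  have hPapp : ∀ v, P v = (Nat.card G : F)⁻¹ • ∑ g : G, ρ g (π (ρ g⁻¹ v)) := fun v => by
    rw [hP, LinearMap.smul_apply, LinearMap.sum_apply]; rfl
  have hmem : ∀ v, P v ∈ W := fun v => by
    rw [hPapp]
    exact W.smul_mem _ (W.sum_mem fun g _ => hW g _ (hπmem _))
  have hid : ∀ w ∈ W, P w = w := fun w hw => by
    rw [hPapp, Finset.sum_congr rfl (fun g _ => by rw [hπid _ (hW g⁻¹ w hw), apply_inv_cancel] :
      ∀ g ∈ (Finset.univ : Finset G), ρ g (π (ρ g⁻¹ w)) = w), Finset.sum_const, Finset.card_univ,
      ← Nat.card_eq_fintype_card, ← Nat.cast_smul_eq_nsmul F, smul_smul, inv_mul_cancel₀ hG, one_smul]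
  have hcomm : ∀ h v, P (ρ h v) = ρ h (P v) := fun h v => by
    rw [hPapp, hPapp, map_smul, map_sum]
    congr 1
    refine Fintype.sum_equiv (Equiv.mulLeft h⁻¹) _ _ fun g => ?_
    simp only [Equiv.coe_mulLeft, mul_inv_rev, inv_inv, map_mul, Module.End.mul_apply]
    rw [apply_inv_cancel]
  refine ⟨LinearMap.ker P, fun g x hx => ?_, ?_⟩
  · rw [LinearMap.mem_ker] at hx ⊢
    rw [hcomm, hx, map_zero]
  · refine IsCompl.of_eq ?_ ?_
    · rw [eq_bot_iff]
      rintro x ⟨hx, hx'⟩
      rw [Submodule.mem_bot, ← hid x hx]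
      exact hx'
    · rw [eq_top_iff]
      intro x _
      refine Submodule.mem_sup.2 ⟨P x, hmem x, x - P x, ?_, by abel⟩
      rw [LinearMap.mem_ker, map_sub, hid _ (hmem x), sub_self]

/-- The statement proved by induction on the dimension. -/
def Bound (F : Type w) [Field F] (n : ℕ) : Prop :=
  ∀ (V : Type v) [AddCommGroup V] [Module F V] [FiniteDimensional F V] [Finite V] [Nontrivial V]
    (G : Type v) [Group G] [Finite G] (ρ : G →* Module.End F V), Module.finrank F V = n →
    Function.Injective ρ → Group.IsSolvable G → ¬ ringChar F ∣ Nat.card G → Good ρ (3 ^ (n - 1))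

theorem coprime_range {G H : Type v} [Group G] [Finite G] [Group H] (f : G →* H)
    (hG : ¬ ringChar F ∣ Nat.card G) : ¬ ringChar F ∣ Nat.card f.range := fun h =>
  hG (h.trans (Subgroup.card_range_dvd f))

/-- Apply the induction hypothesis to a summand. -/
theorem good_part {n : ℕ} (IH : ∀ m < n, Bound.{v} F m) {V : Type v} [AddCommGroup V] [Module F V]
    [FiniteDimensional F V] [Finite V] {G : Type v} [Group G] [Finite G] (ρ : G →* Module.End F V)
    (hsol : Group.IsSolvable G) (hG : ¬ ringChar F ∣ Nat.card G) (W : Submodule F V)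
    (hW : ∀ g, ∀ x ∈ W, ρ g x ∈ W) (hne : W ≠ ⊥) (hlt : Module.finrank F W < n) :
    Good (unitsRep (restrictUnits ρ W hW).range) (3 ^ (Module.finrank F W - 1)) := by
  haveI : Nontrivial W := Submodule.nontrivial_iff_ne_bot.2 hne
  haveI := hsol
  exact IH _ hlt W (restrictUnits ρ W hW).range _ rfl (unitsRep_injective _)
    (Group.isSolvable_of_surjective (restrictUnits ρ W hW).rangeRestrict_surjective)
    (coprime_range _ hG)

set_option maxHeartbeats 1000000 in
theorem good_summands {n : ℕ} (IH : ∀ m < n, Bound.{v} F m) : ∀ (t : ℕ) (V : Type v) [AddCommGroup V]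
    [Module F V] [FiniteDimensional F V] [Finite V] (G : Type v) [Group G] [Finite G]
    (ρ : G →* Module.End F V), Function.Injective ρ → Group.IsSolvable G → ¬ ringChar F ∣ Nat.card G →
    ∀ D : Fin (t + 1) → Submodule F V, iSupIndep D → iSup D = ⊤ → (∀ g i, ∀ x ∈ D i, ρ g x ∈ D i) →
    (∀ i, D i ≠ ⊥) → (∀ i, Module.finrank F (D i) < n) →
      t + 1 ≤ Module.finrank F V ∧ Good ρ (3 ^ (Module.finrank F V - (t + 1))) := by
  intro t
  induction t with
  | zero =>
    intro V _ _ _ _ G _ _ ρ hρ hsol hG D hind htop hinv hne hlt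
    have h0 : D 0 = ⊤ := by
      rw [← htop]
      exact le_antisymm (le_iSup D 0) (iSup_le fun i => by rw [show i = 0 from Fin.ext (by simp)])
    have hd : Module.finrank F (D 0) = Module.finrank F V := by rw [h0, finrank_top]
    haveI : Nontrivial V := by
      haveI := Submodule.nontrivial_iff_ne_bot.2 (hne 0)
      exact (D 0).injective_subtype.nontrivial
    exact ⟨Module.finrank_pos, IH _ (hd ▸ hlt 0) V G ρ rfl hρ hsol hG⟩
  | succ t ih =>
    intro V _ _ _ _ G _ _ ρ hρ hsol hG D hind htop hinv hne hlt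
    classical
    let W1 := D 0
    let W2 : Submodule F V := ⨆ i : Fin (t + 1), D i.succ
    have hW2 : ∀ g, ∀ x ∈ W2, ρ g x ∈ W2 := fun g x hx =>
      Submodule.iSup_induction (fun i : Fin (t + 1) => D i.succ) (motive := fun x => ρ g x ∈ W2) hx
        (fun i y hy => Submodule.mem_iSup_of_mem i (hinv g i.succ y hy))
        (by rw [map_zero]; exact W2.zero_mem) fun a b ha hb => by rw [map_add]; exact W2.add_mem ha hb
    have hc : IsCompl W1 W2 := by
      refine IsCompl.of_eq ?_ ?_
      · refine ((hind 0).mono_right ?_).eq_bot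
        exact iSup_le fun i => le_iSup₂ (f := fun k (_ : k ≠ 0) => D k) i.succ (Fin.succ_ne_zero i)
      · rw [← htop]
        refine le_antisymm (sup_le (le_iSup D 0) (iSup_le fun i => le_iSup D i.succ)) (iSup_le fun i => ?_)
        refine Fin.cases le_sup_left (fun j => ?_) i
        exact le_sup_of_le_right (le_iSup (fun k : Fin (t + 1) => D k.succ) j)
    have hd : Module.finrank F W1 + Module.finrank F W2 = Module.finrank F V :=
      Submodule.finrank_add_eq_of_isCompl hc
    have h1 := good_part IH ρ hsol hG W1 (fun g => hinv g 0) (hne 0) (hlt 0)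
    set f := restrictUnits ρ W2 hW2 with hf
    let D' : Fin (t + 1) → Submodule F W2 := fun i => (D i.succ).comap W2.subtype
    have hle : ∀ i : Fin (t + 1), D i.succ ≤ W2 := fun i => le_iSup (fun k : Fin (t + 1) => D k.succ) i
    have hmap : ∀ i, (D' i).map W2.subtype = D i.succ := fun i => by
      rw [Submodule.map_comap_eq, Submodule.range_subtype, inf_eq_right]
      exact hle i
    have hind' : iSupIndep D' := by
      intro i
      rw [disjoint_iff, eq_bot_iff]
      rintro x ⟨hx1, hx2⟩
      have hx1' : (x : V) ∈ D i.succ := hx1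
      have hx2' : (x : V) ∈ ⨆ (k) (_ : k ≠ i.succ), D k := by
        have hle2 : (⨆ (j) (_ : j ≠ i), D' j).map W2.subtype ≤ ⨆ (k) (_ : k ≠ i.succ), D k := by
          rw [Submodule.map_iSup]
          refine iSup_le fun j => ?_
          rw [Submodule.map_iSup]
          refine iSup_le fun hj => ?_
          rw [hmap j]
          exact le_iSup₂ (f := fun k (_ : k ≠ i.succ) => D k) j.succ fun e => hj (Fin.succ_injective _ e)
        exact hle2 (Submodule.mem_map_of_mem hx2)
      exact Subtype.ext (Submodule.disjoint_def.1 (hind i.succ) _ hx1' hx2')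
    have htop' : iSup D' = ⊤ := by
      refine Submodule.map_injective_of_injective W2.injective_subtype ?_
      rw [Submodule.map_iSup, Submodule.map_top, Submodule.range_subtype]
      exact iSup_congr hmap

    have hinv' : ∀ (g : f.range) i, ∀ x ∈ D' i, unitsRep f.range g x ∈ D' i := by
      rintro ⟨_, g, rfl⟩ i x hx
      exact hinv g i.succ (x : V) hx
    haveI := hsol
    obtain ⟨ht, h2⟩ := ih W2 f.range (unitsRep f.range) (unitsRep_injective _)
      (Group.isSolvable_of_surjective f.rangeRestrict_surjective) (coprime_range f hG) D' hind' htop' hinv'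
      (fun i e => hne i.succ (by rw [← hmap i, e, Submodule.map_bot]))
      (fun i => by
        rw [← LinearEquiv.finrank_eq (Submodule.equivMapOfInjective _ W2.injective_subtype (D' i)).symm, hmap]
        exact hlt i.succ)
    have hpos : 0 < Module.finrank F W1 := by
      haveI := Submodule.nontrivial_iff_ne_bot.2 (hne 0)
      exact Module.finrank_pos
    refine ⟨by omega, (good_binary hρ (fun g => hinv g 0) hW2 hc h1 h2).mono (le_of_eq ?_)⟩
    rw [← pow_add]
    congr 1
    omega

/-- The bounds for soluble linear groups of characteristic prime to the order. -/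
theorem bound : ∀ n, Bound.{v} F n := by
  intro n
  induction n using Nat.strong_induction_on with
  | _ n IH =>
  intro V _ _ _ _ _ G _ _ ρ hn hρ hsol hG
  classical
  haveI := hsol
  have hGF : (Nat.card G : F) ≠ 0 := fun h => hG ((ringChar.spec F _).1 h)
  have hnpos : 0 < n := hn ▸ Module.finrank_pos
  by_cases hirr : Irred ρ
  swap
  · simp only [Irred, not_forall] at hirr
    obtain ⟨W, hW, hWne⟩ := hirr
    push Not at hWne
    obtain ⟨W', hW', hc⟩ := exists_complement ρ hGF hW
    have hW'ne : W' ≠ ⊥ := fun e => hWne.2 (by simpa [e] using hc.sup_eq_top)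
    have hd : Module.finrank F W + Module.finrank F W' = n :=
      (Submodule.finrank_add_eq_of_isCompl hc).trans hn
    have hp1 : 0 < Module.finrank F W := by
      haveI := Submodule.nontrivial_iff_ne_bot.2 hWne.1
      exact Module.finrank_pos
    have hp2 : 0 < Module.finrank F W' := by
      haveI := Submodule.nontrivial_iff_ne_bot.2 hW'ne
      exact Module.finrank_pos
    refine (good_binary hρ hW hW' hc (good_part IH ρ hsol hG W hW hWne.1 (by omega))
      (good_part IH ρ hsol hG W' hW' hW'ne (by omega))).mono ?_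
    rw [← pow_add]
    exact Nat.pow_le_pow_right (by norm_num) (by omega)
  by_cases hprim : NoDecomp ρ
  swap
  · obtain ⟨B⟩ := exists_blocks hprim
    have hdim := B.dim.trans hn
    obtain ⟨t, ht⟩ : ∃ t, B.t = t + 1 := ⟨B.t - 1, by have := B.two_le; omega⟩
    have hc : KB (⊥ : Subgroup (G ⧸ B.π.ker)) (3 ^ (B.t - 1)) := by
      refine kb_of_card ?_
      letI : MulAction G (Fin B.t) := MulAction.compHom (Fin B.t) B.π
      have h := range_le hsol (Fin B.t)
      rw [Nat.card_fin] at h
      rw [← Subgroup.index_eq_card, Subgroup.index_ker]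
      rwa [show MulAction.toPermHom G (Fin B.t) = B.π from MonoidHom.ext fun g => Equiv.ext fun i => rfl] at h
    have hs : B.s < n := by
      rw [← hdim]
      exact lt_mul_of_one_lt_left B.s_pos (by have := B.two_le; omega)
    let e : Fin (t + 1) ≃ Fin B.t := finCongr ht.symm
    haveI : Group.IsSolvable B.π.ker := inferInstance
    obtain ⟨hle, hN⟩ := good_summands IH t V B.π.ker (ρ.comp B.π.ker.subtype)
      (hρ.comp Subtype.val_injective) inferInstance
      (fun h => hG (h.trans (Subgroup.card_subgroup_dvd_card _))) (fun i => B.D (e i))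
      (B.ind.comp e.injective) (by rw [← B.top]; exact e.surjective.iSup_comp B.D)
      (fun k i x hx => by
        have h2 := B.mem (k : G) (e i) x hx
        rwa [show B.π (k : G) = 1 from k.2, Equiv.Perm.one_apply] at h2)
      (fun i => B.D_ne _) (fun i => by rw [B.rank]; exact hs)
    refine (good_extend B.π.ker hc hN).mono ?_
    rw [← pow_add, hn, ← ht]
    refine Nat.pow_le_pow_right (by norm_num) ?_
    rw [hn] at hle
    omega
  obtain ⟨P⟩ : Nonempty (PrimData G (Nat.card F) n) := hn ▸ exists_primData ρ hρ hirr hprim hsol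
  haveI := P.E_normal
  haveI := P.A_normal
  have hsc := isScalars hirr hprim (A := P.A) ⟨⟨fun a b => Subtype.ext (P.A_comm a a.2 b b.2)⟩⟩
  have hfree : ∀ z ∈ P.A, ∀ v : V, v ≠ 0 → ρ z v = v → z = 1 := fun z hz v hv h =>
    hρ ((hsc.eq_of_apply (Algebra.subset_adjoin ⟨z, hz, rfl⟩) (one_mem _) hv
      (h.trans (Module.End.one_apply v).symm)).trans (map_one ρ).symm)
  obtain ⟨p, hchar⟩ := CharP.exists F
  have hp : p.Prime := (CharP.char_is_prime_or_zero F p).resolve_right
    (CharP.char_ne_zero_of_finite F p)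
  have hE : Good (ρ.comp P.E.subtype) 1 :=
    good_nilpotent (hρ.comp Subtype.val_injective) P.E_nilp hp hchar
      (fun h => hG ((ringChar.eq F p).symm ▸ h.trans (Subgroup.card_subgroup_dvd_card _))) fun v hv a b ha hb => by
        refine Subtype.ext (commutatorElement_eq_one_iff_mul_comm.1 (hfree _ (P.E_der a a.2 b b.2) v hv ?_))
        have ha' : ρ ((a : G)⁻¹) v = v := by
          conv_lhs => rw [← show ρ (a : G) v = v from ha]
          rw [inv_apply_cancel]
        have hb' : ρ ((b : G)⁻¹) v = v := by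
          conv_lhs => rw [← show ρ (b : G) v = v from hb]
          rw [inv_apply_cancel]
        rw [commutatorElement_def, map_mul, map_mul, map_mul, Module.End.mul_apply, Module.End.mul_apply,
          Module.End.mul_apply, hb', ha', show ρ (b : G) v = v from hb, show ρ (a : G) v = v from ha]
  have hGE : KB (⊥ : Subgroup (G ⧸ P.E)) (3 ^ (n - 1)) := by
    haveI := P.Y1_normal
    obtain ⟨e, he, hk⟩ := kb_img.{v} _ G P.M P.C P.S rfl hsol fun x => P.M_sqfree x
    let f : G ⧸ P.E →* G ⧸ P.S.Y1 := QuotientGroup.map P.E P.S.Y1 (MonoidHom.id G) P.E_le_cent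
    let Ψ : G ⧸ P.E →* MulAut P.M := QuotientGroup.lift P.E P.S.act fun x hx => by
      rw [← P.act_ker] at hx
      exact hx.1
    haveI : Finite (MulAut P.M) := Finite.of_injective _ DFunLike.coe_injective
    have hker : ∀ z : f.ker, Ψ z ∈ P.S.img := by
      rintro ⟨z, hz⟩
      obtain ⟨g, rfl⟩ := QuotientGroup.mk_surjective z
      exact ⟨g, (QuotientGroup.eq_one_iff _).1 hz, rfl⟩
    have hK : KB (⊥ : Subgroup f.ker) (3 ^ (e - 1)) := by
      refine hk.of_injective ((Ψ.comp f.ker.subtype).codRestrict P.S.img hker) ?_ bot_le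
      refine (injective_iff_map_eq_one _).2 ?_
      rintro ⟨z, hz⟩ h
      obtain ⟨g, rfl⟩ := QuotientGroup.mk_surjective z
      refine Subtype.ext ((QuotientGroup.eq_one_iff g).2 ?_)
      rw [← P.act_ker]
      exact ⟨congrArg Subtype.val h, (QuotientGroup.eq_one_iff _).1 hz⟩
    have hY : KB (⊥ : Subgroup (G ⧸ P.S.Y1)) P.a := kb_of_card (by
      rw [← Subgroup.index_eq_card]; exact P.Y1_index)
    refine (kb_hom f (U := ⊥) (hY.mono bot_le le_rfl) (hK.mono bot_le le_rfl)).mono le_rfl ?_
    have hed : e ≤ P.d := Nat.mul_self_le_mul_self_iff.1 (he.le.trans P.M_le)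
    obtain ⟨a, ha⟩ := Nat.exists_eq_add_of_le' (show 1 ≤ P.a from P.a_pos)
    obtain ⟨d, hd⟩ := Nat.exists_eq_add_of_le' (show 1 ≤ P.d from P.d_pos)
    calc P.a * 3 ^ (e - 1) ≤ 3 ^ (P.a - 1) * 3 ^ (P.d - 1) := by
          refine Nat.mul_le_mul ?_ (Nat.pow_le_pow_right (by norm_num) (by omega))
          rw [ha, Nat.add_sub_cancel]
          exact Nat.lt_pow_self (by norm_num)
      _ ≤ 3 ^ (n - 1) := by
          rw [← pow_add]
          refine Nat.pow_le_pow_right (by norm_num) ?_
          have hdim := P.dim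
          rw [ha, hd, add_mul, mul_add, one_mul] at hdim
          rw [ha, hd]
          omega
  refine (good_extend P.E hGE hE).mono (by rw [mul_one])

end Cfsg.Agent.SolClasses
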