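import Cfsg.Agent.Lib.SolClasses.ClassCount
import Cfsg.Agent.Lib.SolClasses.Pairing
import Mathlib.Algebra.Field.ZMod
import Mathlib.Tactic

/-!
# Groups acting on a plane over a prime field
-/

set_option autoImplicit false
set_option linter.style.haveILetI false
set_option linter.unusedSectionVars false

namespace Cfsg.Agent.SolClasses

universe u

theorem sq_add_le_three_pow : ∀ {p : ℕ}, 2 ≤ p → p * p + p - 3 ≤ 3 ^ (p - 1) := by
  intro p hp
  rcases (show p = 2 ∨ p = 3 ∨ p = 4 ∨ 5 ≤ p by omega) with rfl | rfl | rfl | h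
  · norm_num
  · norm_num
  · norm_num
  · obtain ⟨m, rfl⟩ := Nat.exists_eq_add_of_le' h
    have key : ∀ k, (k + 5) * (k + 5) + (k + 5) ≤ 3 ^ (k + 4) := by
      intro k
      induction k with
      | zero => norm_num
      | succ k ih => rw [show k + 1 + 4 = (k + 4) + 1 by omega, pow_succ]; nlinarith
    have := key m
    rw [show m + 5 - 1 = m + 4 by omega]
    omega

variable {M : Type u} [CommGroup M] [Finite M] {p : ℕ} (hp : p.Prime)
  (hM : Nat.card M = p * p) (hexp : ∀ x : M, x ^ p = 1)

include hp hM hexp in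
theorem closure_pair_eq_top {v w : M} (hv : v ≠ 1) (hw : w ∉ Subgroup.zpowers v) :
    Subgroup.closure ({v, w} : Set M) = ⊤ := by
  haveI := Fact.mk hp
  set W := Subgroup.closure ({v, w} : Set M) with hW
  have hvW : Subgroup.zpowers v ≤ W := Subgroup.zpowers_le.2 (Subgroup.subset_closure (by simp))
  have hcv : Nat.card (Subgroup.zpowers v) = p := by
    rw [Nat.card_zpowers, orderOf_eq_prime (hexp v) hv]
  refine Subgroup.eq_top_of_card_eq _ ?_
  have h1 : Nat.card W ∣ p * p := hM ▸ Subgroup.card_subgroup_dvd_card W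
  rw [← sq] at h1
  obtain ⟨i, hi, he⟩ := (Nat.dvd_prime_pow hp).1 h1
  have h2 : p ∣ Nat.card W := hcv ▸ Subgroup.card_dvd_of_le hvW
  have h3 : i = 2 := by
    by_contra hi2
    have : i = 1 := by
      rcases (show i = 0 ∨ i = 1 by omega) with rfl | rfl
      · rw [he, pow_zero, Nat.dvd_one] at h2; exact absurd h2 hp.ne_one
      · rfl
    subst this
    exact hw ((Subgroup.eq_of_le_of_card_ge hvW (by rw [he, pow_one, hcv])) ▸ Subgroup.subset_closure (by simp))
  rw [he, h3, hM, sq]

include hp hM hexp in
/-- A group acting faithfully on a plane over the field with `p` elements has subgroups with few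
classes. -/
theorem kb_plane {H : Type u} [Group H] [Finite H] (act : H →* MulAut M)
    (hact : Function.Injective act) : KB (⊥ : Subgroup H) (3 ^ (p - 1)) := by
  classical
  haveI := Fact.mk hp
  intro X _
  haveI := Fintype.ofFinite X
  obtain ⟨v0, hv0⟩ : ∃ v : M, v ≠ 1 := by
    by_contra hc
    push Not at hc
    have : Subsingleton M := ⟨fun a b => (hc a).trans (hc b).symm⟩
    rw [Nat.card_unique] at hM
    nlinarith [hp.two_le]
  let S : Finset X := Finset.univ.filter fun g => ∀ v : M, act (g : H) v ∈ Subgroup.zpowers v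
  have hfix : ∀ (g : X) (v : M), act (g : H) v = 1 → v = 1 := fun g v h =>
    (act (g : H)).injective (h.trans (map_one _).symm)
  -- scalars
  have hSle : S.card ≤ p - 1 := by
    let T := {z : Subgroup.zpowers v0 // z ≠ 1}
    have hT : Nat.card T = p - 1 := by
      haveI := Fintype.ofFinite (Subgroup.zpowers v0)
      rw [Nat.card_eq_fintype_card, Fintype.card_subtype_compl, Fintype.card_subtype_eq,
        ← Nat.card_eq_fintype_card, Nat.card_zpowers, orderOf_eq_prime (hexp v0) hv0]
    rw [← hT, ← Nat.card_eq_finsetCard]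
    refine Nat.card_le_card_of_injective (fun g : S => (⟨⟨act ((g : X) : H) v0,
      (Finset.mem_filter.1 g.2).2 v0⟩, fun h => hv0 (hfix g v0 (congrArg Subtype.val h))⟩ : T))
      fun g g' h => ?_
    have h0 : act ((g : X) : H) v0 = act ((g' : X) : H) v0 := congrArg (fun z : T => ((z : Subgroup.zpowers v0) : M)) h
    refine Subtype.ext (Subtype.ext (hact (MulEquiv.ext fun w => ?_)))
    by_cases hw : w ∈ Subgroup.zpowers v0
    · obtain ⟨i, rfl⟩ := Subgroup.mem_zpowers_iff.1 hw
      rw [map_zpow, map_zpow, h0]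
    · have hw1 : w ≠ 1 := fun e => hw (e ▸ Subgroup.one_mem _)
      have hvw : v0 * w ≠ 1 := fun e => hw (by
        rw [eq_inv_of_mul_eq_one_right e]; exact Subgroup.inv_mem _ (Subgroup.mem_zpowers v0))
      set h : H := ((g' : X) : H)⁻¹ * ((g : X) : H) with hh
      have hv : act h v0 = v0 := by
        rw [hh, map_mul, MulAut.mul_apply, h0, map_inv, MulAut.inv_apply_self]
      have hs : ∀ z : M, ∃ i : ℤ, act h z = z ^ i := fun z => by
        obtain ⟨i, hi⟩ := Subgroup.mem_zpowers_iff.1 ((Finset.mem_filter.1 g.2).2 z)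
        by_cases hz1 : z = 1
        · exact ⟨0, by rw [hz1, map_one, one_zpow]⟩
        have hle : Subgroup.zpowers (act ((g' : X) : H) z) ≤ Subgroup.zpowers z :=
          Subgroup.zpowers_le.2 ((Finset.mem_filter.1 g'.2).2 z)
        have heq := Subgroup.eq_of_le_of_card_ge hle (by
          rw [Nat.card_zpowers, Nat.card_zpowers, orderOf_eq_prime (hexp z) hz1,
            orderOf_eq_prime (hexp _) (fun e => hz1 (hfix g' z e))])
        obtain ⟨k, hk⟩ := Subgroup.mem_zpowers_iff.1 (heq ▸ Subgroup.mem_zpowers z :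
          z ∈ Subgroup.zpowers (act ((g' : X) : H) z))
        refine ⟨k * i, ?_⟩
        have hk' : (act ((g' : X) : H))⁻¹ z = z ^ k := by
          rw [MulAut.inv_apply, MulEquiv.symm_apply_eq, map_zpow, hk]
        rw [hh, map_mul, MulAut.mul_apply, map_inv, ← hi, map_zpow, hk', zpow_mul]
      obtain ⟨b, hb⟩ := hs w
      obtain ⟨c, hc⟩ := hs (v0 * w)
      rw [map_mul, hv, hb, mul_zpow] at hc
      have hsplit : v0 ^ (1 - c) = w ^ (c - b) := by
        rw [zpow_sub, zpow_sub, zpow_one, eq_comm, ← div_eq_mul_inv, ← div_eq_mul_inv,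
          div_eq_div_iff_mul_eq_mul, mul_comm (v0 : M) (w ^ b), mul_comm (w ^ b), hc]
        exact mul_comm _ _
      have hone : w ^ (c - b) = 1 := by
        by_contra hne
        refine hw ?_
        haveI := Fact.mk hp
        have hd : ¬ (p : ℤ) ∣ c - b := fun ⟨k, hk⟩ => hne (by
          rw [hk, zpow_mul, zpow_natCast, hexp, one_zpow])
        obtain ⟨u, hu⟩ : ∃ u : ℤ, (c - b) * u ≡ 1 [ZMOD (p : ℤ)] := by
          refine ⟨((((c - b : ℤ) : ZMod p))⁻¹).val, ?_⟩
          rw [← ZMod.intCast_eq_intCast_iff]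
          push_cast
          rw [ZMod.natCast_zmod_val]
          exact mul_inv_cancel₀ (G₀ := ZMod p) (fun e => hd ((ZMod.intCast_zmod_eq_zero_iff_dvd _ p).1 (by push_cast; exact e)))
        have e : w = (v0 ^ (1 - c)) ^ u := by
          rw [hsplit, ← zpow_mul]
          conv_lhs => rw [← zpow_one w]
          rw [zpow_eq_zpow_iff_modEq, orderOf_eq_prime (hexp w) hw1]
          exact hu.symm
        rw [e, ← zpow_mul]
        exact Subgroup.zpow_mem_zpowers _ _
      have hc1 : (v0 : M) ^ (1 - c) = 1 := hsplit.trans hone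
      have hwc : w ^ c = w := by
        have h1 : ((1 : ℤ) : ZMod p) = (c : ZMod p) := by
          rw [ZMod.intCast_eq_intCast_iff, Int.modEq_iff_dvd, ← dvd_neg, neg_sub,
            ← orderOf_eq_prime (hexp v0) hv0, orderOf_dvd_iff_zpow_eq_one]
          exact hc1
        conv_rhs => rw [← zpow_one w]
        rw [zpow_eq_zpow_iff_modEq, orderOf_eq_prime (hexp w) hw1, ← ZMod.intCast_eq_intCast_iff]
        exact h1.symm
      have hwb : w ^ b = w := by
        rw [zpow_sub, mul_inv_eq_one] at hone
        rw [← hone, hwc]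
      have h2 : act h w = w := hb.trans hwb
      rw [hh, map_mul, MulAut.mul_apply, map_inv, MulAut.inv_apply, MulEquiv.symm_apply_eq] at h2
      exact h2
  have hS1 : 1 ≤ S.card := Finset.one_le_card.2 ⟨1, Finset.mem_filter.2 ⟨Finset.mem_univ _, fun v => by
    rw [OneMemClass.coe_one, map_one, MulAut.one_apply]; exact Subgroup.mem_zpowers v⟩⟩
  set c := min (p * p - 1) (Nat.card X) with hc
  have hcpos : 1 ≤ c := le_min (by nlinarith [hp.two_le, Nat.sub_add_cancel (show 1 ≤ p * p by nlinarith [hp.two_le])]) Nat.card_pos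
  have hcent : ∀ x : X, x ∉ S → Nat.card {y : X // Commute x y} ≤ c := by
    intro x hx
    refine le_min ?_ (Nat.card_le_card_of_injective _ Subtype.val_injective)
    simp only [S, Finset.mem_filter, Finset.mem_univ, true_and, not_forall] at hx
    obtain ⟨v, hv⟩ := hx
    have hv1 : v ≠ 1 := fun e => hv (by rw [e, map_one]; exact Subgroup.one_mem _)
    have htop := closure_pair_eq_top hp hM hexp hv1 hv
    let T := {z : M // z ≠ 1}
    have hT : Nat.card T = p * p - 1 := by
      haveI := Fintype.ofFinite M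
      rw [Nat.card_eq_fintype_card, Fintype.card_subtype_compl, Fintype.card_subtype_eq,
        ← Nat.card_eq_fintype_card, hM]
    rw [← hT]
    refine Nat.card_le_card_of_injective (fun y : {y : X // Commute x y} =>
      (⟨act ((y : X) : H) v, fun e => hv1 (hfix y v e)⟩ : T)) fun y y' h => ?_
    have h0 : act ((y : X) : H) v = act ((y' : X) : H) v := congrArg Subtype.val h
    have hxv : ∀ z : {y : X // Commute x y}, act ((z : X) : H) (act (x : H) v) = act (x : H) (act ((z : X) : H) v) :=
      fun z => by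
        rw [← MulAut.mul_apply, ← MulAut.mul_apply, ← map_mul, ← map_mul, ← Subgroup.coe_mul,
          ← Subgroup.coe_mul, z.2.eq]
    refine Subtype.ext (Subtype.ext (hact (MulEquiv.ext fun w => ?_)))
    have hwtop : w ∈ Subgroup.closure ({v, act (x : H) v} : Set M) := htop ▸ trivial
    induction hwtop using Subgroup.closure_induction with
    | mem w hw =>
      rcases hw with rfl | rfl
      · exact h0
      · rw [hxv, hxv, h0]
    | one => simp
    | mul a b _ _ ha hb => rw [map_mul, map_mul, ha, hb]
    | inv a _ ha => rw [map_inv, map_inv, ha]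
  have hmain := classes_le_of_centralizers S (p - 1) c hSle (min_le_right _ _) hcent
  have hlt : Nat.card (ConjClasses X) < (p - 1) + c := by
    by_contra hge
    have h1 := Nat.mul_le_mul (not_lt.1 hge) (le_refl (Nat.card X))
    rw [Nat.add_mul] at h1
    have h2 : 1 ≤ (p - 1) * c := Nat.one_le_iff_ne_zero.2 (Nat.mul_ne_zero (by have := hp.two_le; omega) (by omega))
    rw [Nat.mul_comm c] at h1
    omega
  have hcle : c ≤ p * p - 1 := min_le_left _ _
  have := sq_add_le_three_pow hp.two_le
  have := hp.two_le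
  omega

/-- At most `p (p² - 1)` isometries of a nondegenerate plane. -/
theorem card_img_plane {Y M C : Type u} [Group Y] [CommGroup M] [CommGroup C] [Finite M]
    (S : Sympl Y M C) {p : ℕ} (hp : p.Prime) (hM : Nat.card M = p * p) (hexp : ∀ x : M, x ^ p = 1) :
    Nat.card S.img ≤ (p * p - 1) * p := by
  classical
  haveI := Fact.mk hp
  obtain ⟨v, hv⟩ : ∃ v : M, v ≠ 1 := by
    by_contra hc
    push Not at hc
    have : Subsingleton M := ⟨fun a b => (hc a).trans (hc b).symm⟩
    rw [Nat.card_unique] at hM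
    nlinarith [hp.two_le]
  obtain ⟨w, hw⟩ : ∃ w, S.β v w ≠ 1 := by
    by_contra hc
    push Not at hc
    exact hv (S.nondeg hc)
  have hwv : w ∉ Subgroup.zpowers v := fun h => by
    obtain ⟨i, rfl⟩ := Subgroup.mem_zpowers_iff.1 h
    exact hw (by rw [map_zpow, S.alt, one_zpow])
  have htop := closure_pair_eq_top hp hM hexp hv hwv
  set c := S.β v w with hc
  let T := Σ u : {u : M // u ≠ 1}, {z : M // S.β (u : M) z = c}
  have hinv : ∀ g : S.img, S.β ((g : MulAut M) v) ((g : MulAut M) w) = c := fun g => by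
    obtain ⟨y, hy, e⟩ := g.2
    rw [← e]; exact S.inv1 y hy v w
  let Φ : S.img → T := fun g =>
    ⟨⟨(g : MulAut M) v, fun e => hv ((g : MulAut M).injective (e.trans (map_one _).symm))⟩,
      ⟨(g : MulAut M) w, hinv g⟩⟩
  have hΦ : Function.Injective Φ := fun g g' h => by
    have h1 : (g : MulAut M) v = (g' : MulAut M) v := congrArg (fun t : T => (t.1 : M)) h
    have h2 : (g : MulAut M) w = (g' : MulAut M) w := congrArg (fun t : T => (t.2 : M)) h
    refine Subtype.ext (MulEquiv.ext fun z => ?_)
    have hz : z ∈ Subgroup.closure ({v, w} : Set M) := htop ▸ trivial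
    induction hz using Subgroup.closure_induction with
    | mem z hz => rcases hz with rfl | rfl <;> assumption
    | one => simp
    | mul a b _ _ ha hb => rw [map_mul, map_mul, ha, hb]
    | inv a _ ha => rw [map_inv, map_inv, ha]
  refine (Nat.card_le_card_of_injective Φ hΦ).trans ?_
  haveI := Fintype.ofFinite M
  rw [Nat.card_sigma]
  refine (Finset.sum_le_card_nsmul _ _ p fun u _ => ?_).trans ?_
  · -- a coset of the kernel of a nonzero functional
    let K : Subgroup M := (S.β (u : M)).ker
    have hK : Nat.card K ≤ p := by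
      have h1 : Nat.card K ∣ p * p := hM ▸ Subgroup.card_subgroup_dvd_card K
      rw [← sq] at h1
      obtain ⟨i, hi, he⟩ := (Nat.dvd_prime_pow hp).1 h1
      have hne : K ≠ ⊤ := fun e => u.2 (S.nondeg fun z => by
        have : z ∈ K := e ▸ trivial
        exact this)
      have hi2 : i ≠ 2 := fun h2 => hne (Subgroup.eq_top_of_card_eq _ (by rw [he, h2, hM, sq]))
      rw [he]
      calc p ^ i ≤ p ^ 1 := Nat.pow_le_pow_right hp.pos (by omega)
        _ = p := pow_one p
    refine le_trans ?_ hK
    by_cases hne : Nonempty {z : M // S.β (u : M) z = c}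
    · obtain ⟨⟨z0, hz0⟩⟩ := hne
      refine Nat.card_le_card_of_injective (fun z : {z : M // S.β (u : M) z = c} =>
        (⟨z0⁻¹ * z, show S.β (u : M) (z0⁻¹ * z) = 1 by rw [map_mul, map_inv, hz0, z.2, inv_mul_cancel]⟩ : K))
        fun a b h => Subtype.ext (mul_left_cancel (congrArg Subtype.val h))
    · haveI := not_nonempty_iff.1 hne
      simp
  · rw [smul_eq_mul, Finset.card_univ, Fintype.card_subtype_compl, Fintype.card_subtype_eq,
      ← Nat.card_eq_fintype_card, hM]

end Cfsg.Agent.SolClasses
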