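import Cfsg.Agent.Lib.SolClasses.Blocks
import Cfsg.Agent.Lib.SolClasses.Layer
import Cfsg.Agent.Lib.SolClasses.Plane
import Mathlib.Algebra.Module.ZMod

/-!
# Orders of small irreducible soluble linear groups
-/

set_option autoImplicit false
set_option linter.style.haveILetI false
set_option linter.unusedSectionVars false

namespace Cfsg.Agent.SolClasses

open PrimSol

universe u v w

section Convert

/-- An automorphism of an elementary group as a linear map over the prime field. -/
def linHom {M : Type u} [CommGroup M] (p : ℕ) [Fact p.Prime] [Module (ZMod p) (Additive M)] :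
    MulAut M →* Module.End (ZMod p) (Additive M) where
  toFun f := AddMonoidHom.toZModLinearMap p (MonoidHom.toAdditive f.toMonoidHom)
  map_one' := LinearMap.ext fun _ => rfl
  map_mul' _ _ := LinearMap.ext fun _ => rfl

theorem linHom_injective {M : Type u} [CommGroup M] (p : ℕ) [Fact p.Prime] [Module (ZMod p) (Additive M)] :
    Function.Injective (linHom (M := M) p) := fun _ _ h =>
  MulEquiv.ext fun x => congrArg Additive.toMul (LinearMap.congr_fun h (Additive.ofMul x))

/-- A group of automorphisms without invariant subgroups is irreducible over the prime field. -/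
theorem linHom_irred {M : Type u} [CommGroup M] (p : ℕ) [Fact p.Prime] [Module (ZMod p) (Additive M)] (H : Subgroup (MulAut M))
    (h : ∀ B : Subgroup M, (∀ f ∈ H, ∀ x ∈ B, f x ∈ B) → B = ⊥ ∨ B = ⊤) :
    Irred ((linHom (M := M) p).comp H.subtype) := by
  intro W hW
  let B : Subgroup M :=
    { carrier := {x | Additive.ofMul x ∈ W}
      one_mem' := W.zero_mem
      mul_mem' := fun {a b} ha hb => W.add_mem ha hb
      inv_mem' := fun {a} ha => W.neg_mem ha }
  refine (h B fun f hf x hx => hW ⟨f, hf⟩ _ hx).imp (fun e => ?_) fun e => ?_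
  · refine (Submodule.eq_bot_iff W).2 fun x hx => ?_
    have h2 : Additive.toMul x ∈ B := hx
    rw [e, Subgroup.mem_bot] at h2
    exact h2
  · refine Submodule.eq_top_iff'.2 fun x => ?_
    have h2 : Additive.toMul x ∈ B := e ▸ Subgroup.mem_top _
    exact h2

/-- The dimension over the prime field. -/
theorem finrank_additive {M : Type u} [CommGroup M] [Finite M] {p k : ℕ} [Fact p.Prime]
    [Module (ZMod p) (Additive M)] (hM : Nat.card M = p ^ k) :
    Module.finrank (ZMod p) (Additive M) = k := by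
  haveI : Module.Finite (ZMod p) (Additive M) := Module.Finite.of_finite
  have h := Module.natCard_eq_pow_finrank (K := ZMod p) (V := Additive M)
  rw [Nat.card_zmod, ← Nat.card_congr (Additive.ofMul (α := M)), hM] at h
  exact (Nat.pow_right_injective (Fact.out : p.Prime).two_le h).symm

end Convert

section Split

variable {Y M C : Type u} [Group Y] [CommGroup M] [CommGroup C] (S : Sympl Y M C)
  {B : Subgroup M} (hB : ∀ y : Y, ∀ x ∈ B, S.act y x ∈ B)

include hB in
theorem Sympl.img_mem (g : S.img) : ∀ x ∈ B, (g : MulAut M) x ∈ B := by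
  obtain ⟨g, y, -, rfl⟩ := g
  exact hB y

/-- The induced group on an invariant subgroup. -/
def Sympl.imgRestrict : S.img →* MulAut B where
  toFun g :=
    { toFun := fun x => ⟨(g : MulAut M) x, S.img_mem hB g x x.2⟩
      invFun := fun x => ⟨((g⁻¹ : S.img) : MulAut M) x, S.img_mem hB g⁻¹ x x.2⟩
      left_inv := fun x => Subtype.ext (by simp)
      right_inv := fun x => Subtype.ext (by simp)
      map_mul' := fun a b => Subtype.ext (map_mul (g : MulAut M) _ _) }
  map_one' := MulEquiv.ext fun _ => Subtype.ext rfl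
  map_mul' _ _ := MulEquiv.ext fun _ => Subtype.ext rfl

theorem Sympl.imgRestrict_mem (g : S.img) : S.imgRestrict hB g ∈ (S.restrict B hB).img := by
  obtain ⟨y, hy, e⟩ := g.2
  refine ⟨y, hy, MulEquiv.ext fun x => Subtype.ext ?_⟩
  rw [S.restrict_apply B hB y x, e]
  rfl

theorem Sympl.imgRestrict_joint [Finite M] [Finite C] [IsCyclic C] (g : S.img)
    (h1 : S.imgRestrict hB g = 1) (h2 : S.imgRestrict (S.perp_inv hB) g = 1) : g = 1 := by
  refine Subtype.ext (MulEquiv.ext fun x => ?_)
  have hx : x ∈ B ⊔ S.perp B := (S.isComplement hB).2.1 ▸ Subgroup.mem_top x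
  obtain ⟨a, ha, b, hb, rfl⟩ := Subgroup.mem_sup.1 hx
  have ea : (g : MulAut M) a = a := congrArg Subtype.val (MulEquiv.congr_fun h1 ⟨a, ha⟩)
  have eb : (g : MulAut M) b = b := congrArg Subtype.val (MulEquiv.congr_fun h2 ⟨b, hb⟩)
  rw [map_mul, ea, eb]
  rfl

theorem Sympl.card_img_split [Finite M] [Finite C] [IsCyclic C] :
    Nat.card S.img ≤ Nat.card (S.restrict B hB).img *
      Nat.card (S.restrict (S.perp B) (S.perp_inv hB)).img := by
  haveI : Finite (MulAut B) := Finite.of_injective _ DFunLike.coe_injective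
  haveI : Finite (MulAut (S.perp B)) := Finite.of_injective _ DFunLike.coe_injective
  let f := ((S.imgRestrict hB).codRestrict _ (S.imgRestrict_mem hB)).prod
    ((S.imgRestrict (S.perp_inv hB)).codRestrict _ (S.imgRestrict_mem (S.perp_inv hB)))
  rw [← Nat.card_prod]
  refine Nat.card_le_card_of_injective f ((injective_iff_map_eq_one f).2 fun g hg => ?_)
  exact S.imgRestrict_joint hB g (congrArg (fun z => (z.1 : MulAut B)) hg)
    (congrArg (fun z => (z.2 : MulAut (S.perp B))) hg)

end Split

namespace PrimData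

variable {G : Type u} [Group G] [Finite G] {q r : ℕ} (P : PrimData G q r)

theorem card_le_trivial (hM : Nat.card P.M = 1) : Nat.card G ≤ P.a * (q ^ P.a - 1) := by
  refine P.card_le.trans (Nat.mul_le_mul_left _ ?_)
  haveI : Subsingleton P.M := (Nat.card_eq_one_iff_unique.1 hM).1
  haveI : Subsingleton (MulAut P.M) := ⟨fun f g => MulEquiv.ext fun _ => Subsingleton.elim _ _⟩
  rw [hM, mul_one, Nat.card_unique (α := P.S.img), mul_one]
  exact P.card_A

/-- When only one prime can divide it, the order of the quotient is an even power. -/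
theorem card_M_square {l : ℕ} (hl : l.Prime)
    (h : ∀ l' : ℕ, l'.Prime → l' ∣ q ^ P.a - 1 → l' ≤ P.d * P.d → l' = l) :
    ∃ m, Nat.card P.M = l ^ (2 * m) ∧ l ^ (2 * m) ≤ P.d * P.d ∧ ∀ x : P.M, x ^ l = 1 := by
  have honly : ∀ l', Nat.Prime l' → l' ∣ Nat.card P.M → l' = l := fun l' hl' hd =>
    h l' hl' (P.M_prime l' hl' hd) ((Nat.le_of_dvd Nat.card_pos hd).trans P.M_le)
  have hexp : ∀ x : P.M, x ^ l = 1 := by
    intro x
    obtain ⟨n, hn, hx⟩ := P.M_sqfree x
    refine orderOf_dvd_iff_pow_eq_one.1 ?_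
    have h1 : orderOf x ∣ n := orderOf_dvd_of_pow_eq_one hx
    have h2 : Squarefree (orderOf x) := hn.squarefree_of_dvd h1
    rw [← Nat.prod_primeFactors_of_squarefree h2]
    refine (Finset.prod_dvd_prod_of_subset _ {l} id fun l' hl' => Finset.mem_singleton.2
      (honly l' (Nat.prime_of_mem_primeFactors hl')
        ((Nat.dvd_of_mem_primeFactors hl').trans (orderOf_dvd_natCard x)))).trans ?_
    rw [Finset.prod_singleton, id]
  haveI : IsCyclic P.C := P.cycC
  obtain ⟨m, hm⟩ := P.S.card_square hl (Nat.card P.M) ⊤ Subgroup.card_top (fun x _ => hexp x)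
    fun x _ hx => P.S.nondeg fun z => hx z trivial
  exact ⟨m, hm, hm ▸ P.M_le, hexp⟩

end PrimData

section Bounds

variable {F : Type w} [Field F] [Finite F]

theorem irred_units (s : ℕ) :
    IrredBound.{v} F s (∏ i : Fin s, (Nat.card F ^ s - Nat.card F ^ (i : ℕ))) := by
  intro W _ _ _ _ _ H _ _ τ hs hτ _ _
  haveI : Finite (Module.End F W) := Finite.of_injective _ DFunLike.coe_injective
  haveI : Finite (Module.End F W)ˣ := Finite.of_injective _ Units.val_injective
  rw [← card_units_eq hs]
  exact Nat.card_le_card_of_injective τ.toHomUnits fun a b h => hτ (congrArg Units.val h)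

/-- The blocks' share of a group with a system of imprimitivity. -/
theorem Blocks.card_le_of {V : Type v} [AddCommGroup V] [Module F V] [FiniteDimensional F V] [Finite V]
    [Nontrivial V] {G : Type u} [Group G] [Finite G] {ρ : G →* Module.End F V} (B : Blocks ρ)
    (hρ : Function.Injective ρ) (hirr : Irred ρ) (hsol : Group.IsSolvable G) {t s b N : ℕ}
    (ht : B.t = t) (hs : B.s = s) (hb : IrredBound.{v} F s b) (hN : Nat.factorial t * b ^ t ≤ N) :
    Nat.card G ≤ N := by
  subst ht hs
  exact (B.card_le hρ hirr hsol hb).trans hN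

theorem PrimData.card_M_one {G : Type u} [Group G] [Finite G] {q r : ℕ} (P : PrimData G q r)
    (h : ∀ l : ℕ, l.Prime → l ∣ q ^ P.a - 1 → P.d * P.d < l) : Nat.card P.M = 1 := by
  by_contra hne
  obtain ⟨l, hl, hd⟩ := Nat.exists_prime_and_dvd hne
  exact absurd ((Nat.le_of_dvd Nat.card_pos hd).trans P.M_le) (not_le.2 (h l hl (P.M_prime l hl hd)))

theorem irred_three_two (hq : Nat.card F = 2) : IrredBound.{v} F 3 21 := by
  intro W _ _ _ _ _ H _ _ τ hs hτ hirr hsol
  by_cases hprim : NoDecomp τ
  · obtain ⟨P⟩ : Nonempty (PrimData H 2 3) := by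
      have h0 := exists_primData τ hτ hirr hprim hsol
      rwa [hq, hs] at h0
    have hdim := P.dim
    have hM : Nat.card P.M = 1 := P.card_M_one fun l hl hd => by
      rcases (Nat.dvd_prime Nat.prime_three).1 (Dvd.intro _ hdim) with ha | ha
      · rw [ha] at hd; exact absurd (Nat.dvd_one.1 (by simpa using hd)) hl.ne_one
      · have hd1 : P.d = 1 := by rw [ha] at hdim; omega
        rw [hd1]; exact hl.one_lt
    refine (P.card_le_trivial hM).trans ?_
    rcases (Nat.dvd_prime Nat.prime_three).1 (Dvd.intro _ hdim) with ha | ha <;> rw [ha] <;> norm_num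
  · obtain ⟨B⟩ := exists_blocks hprim
    have hd := B.dim
    have h2 := B.two_le
    rw [hs] at hd
    have ht : B.t = 3 :=
      ((Nat.dvd_prime Nat.prime_three).1 (Dvd.intro _ hd)).resolve_left (by omega)
    exact B.card_le_of hτ hirr hsol (s := 1) ht (by rw [ht] at hd; omega) (irred_units 1)
      (by rw [hq]; decide)

theorem eq_of_mul_eq_four {a b : ℕ} (h : a * b = 4) :
    (a = 1 ∧ b = 4) ∨ (a = 2 ∧ b = 2) ∨ (a = 4 ∧ b = 1) := by
  have := Nat.le_of_dvd (by norm_num) (Dvd.intro b h : a ∣ 4)
  interval_cases a <;> omega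

theorem eq_of_mul_eq_six {a b : ℕ} (h : a * b = 6) :
    (a = 1 ∧ b = 6) ∨ (a = 2 ∧ b = 3) ∨ (a = 3 ∧ b = 2) ∨ (a = 6 ∧ b = 1) := by
  have := Nat.le_of_dvd (by norm_num) (Dvd.intro b h : a ∣ 6)
  interval_cases a <;> omega

theorem prime_le_three_of_dvd_three {l : ℕ} (hl : l.Prime) (h : l ∣ 3) : l = 3 :=
  ((Nat.dvd_prime Nat.prime_three).1 h).resolve_left hl.ne_one

theorem irred_four_two (hq : Nat.card F = 2) : IrredBound.{v} F 4 72 := by
  intro W _ _ _ _ _ H _ _ τ hs hτ hirr hsol
  by_cases hprim : NoDecomp τ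
  · obtain ⟨P⟩ : Nonempty (PrimData H 2 4) := by
      have h0 := exists_primData τ hτ hirr hprim hsol
      rwa [hq, hs] at h0
    have hdim := P.dim
    have hM : Nat.card P.M = 1 := by
      rcases eq_of_mul_eq_four hdim with ⟨ha, hd⟩ | ⟨ha, hd⟩ | ⟨ha, hd⟩
      · refine P.card_M_one fun l hl h => ?_
        rw [ha] at h
        exact absurd (Nat.dvd_one.1 (by simpa using h)) hl.ne_one
      · obtain ⟨m, hm, hle, -⟩ := P.card_M_square Nat.prime_three fun l hl h _ => by
          rw [ha] at h
          exact prime_le_three_of_dvd_three hl (by simpa using h)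
        rw [hd] at hle
        rcases Nat.eq_zero_or_pos m with rfl | hm0
        · simpa using hm
        · have : 3 ^ 2 ≤ 3 ^ (2 * m) := Nat.pow_le_pow_right (by norm_num) (by omega)
          omega
      · refine P.card_M_one fun l hl _ => ?_
        rw [hd]; exact hl.one_lt
    refine (P.card_le_trivial hM).trans ?_
    rcases eq_of_mul_eq_four hdim with ⟨ha, -⟩ | ⟨ha, -⟩ | ⟨ha, -⟩ <;> rw [ha] <;> norm_num
  · obtain ⟨B⟩ := exists_blocks hprim
    have hd := B.dim
    have h2 := B.two_le
    rw [hs] at hd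
    rcases eq_of_mul_eq_four hd with ⟨ht, hs'⟩ | ⟨ht, hs'⟩ | ⟨ht, hs'⟩
    · omega
    · exact B.card_le_of hτ hirr hsol ht hs' (irred_units 2) (by rw [hq]; decide)
    · exact B.card_le_of hτ hirr hsol ht hs' (irred_units 1) (by rw [hq]; decide)

end Bounds

section Sixteen

/-- The similitudes of multiplier one of a plane or a four dimensional space over two elements. -/
theorem card_img_sixteen {Y M C : Type u} [Group Y] [Finite Y] [CommGroup M] [CommGroup C] [Finite M]
    [Finite C] [IsCyclic C] (S : Sympl Y M C) (hY : Group.IsSolvable Y) (hM : Nat.card M = 16)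
    (hexp : ∀ x : M, x ^ 2 = 1) : Nat.card S.img ≤ 72 := by
  classical
  haveI := hY
  haveI : Finite (MulAut M) := Finite.of_injective _ DFunLike.coe_injective
  by_cases h : ∀ B : Subgroup M, (∀ f ∈ S.act.range, ∀ x ∈ B, f x ∈ B) → B = ⊥ ∨ B = ⊤
  · letI : Module (ZMod 2) (Additive M) := AddCommGroup.zmodModule fun x => by
      have := hexp (Additive.toMul x)
      exact this
    haveI : Module.Finite (ZMod 2) (Additive M) := Module.Finite.of_finite
    haveI : Nontrivial M := Finite.one_lt_card_iff_nontrivial.1 (by omega)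
    have hs : Group.IsSolvable S.act.range := Group.isSolvable_of_surjective S.act.rangeRestrict_surjective
    refine le_trans ?_ (irred_four_two.{u} (Nat.card_zmod 2) (Additive M) S.act.range
      ((linHom 2).comp S.act.range.subtype) (finrank_additive (k := 4) (by rw [hM]; norm_num))
      ((linHom_injective 2).comp Subtype.val_injective) (linHom_irred 2 _ h) hs)
    exact Subgroup.card_le_of_le (Subgroup.map_le_range _ _)
  · push Not at h
    obtain ⟨B, hB0, hbot, htop⟩ := h
    have hB : ∀ y : Y, ∀ x ∈ B, S.act y x ∈ B := fun y => hB0 _ ⟨y, rfl⟩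
    obtain ⟨h1, h2, hmul⟩ := S.isComplement hB
    have hsq : ∀ (B' : Subgroup M) (hB' : ∀ y : Y, ∀ x ∈ B', S.act y x ∈ B'), B' ≠ ⊥ →
        ∃ m, 0 < m ∧ Nat.card B' = 2 ^ (2 * m) := by
      intro B' hB' hne
      obtain ⟨m, hm⟩ := (S.restrict B' hB').card_square Nat.prime_two (Nat.card B') ⊤ Subgroup.card_top
        (fun x _ => Subtype.ext (by simpa using hexp x))
        fun x _ hx => (S.restrict B' hB').nondeg fun z => hx z trivial
      refine ⟨m, Nat.pos_of_ne_zero fun e => hne (Subgroup.card_eq_one.1 ?_), hm⟩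
      rw [hm, e]; rfl
    have hperp : S.perp B ≠ ⊥ := fun e => htop (by rwa [e, sup_bot_eq] at h2)
    obtain ⟨m, hm0, hm⟩ := hsq B hB hbot
    obtain ⟨k, hk0, hk⟩ := hsq _ (S.perp_inv hB) hperp
    have hmk : m = 1 ∧ k = 1 := by
      rw [hM, hm, hk, ← pow_add, show (16 : ℕ) = 2 ^ 4 by norm_num] at hmul
      have := Nat.pow_right_injective le_rfl hmul
      omega
    refine (S.card_img_split hB).trans (le_trans (Nat.mul_le_mul
      (card_img_plane (S.restrict B hB) Nat.prime_two (by rw [hm, hmk.1]; norm_num)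
        (fun x => Subtype.ext (by simpa using hexp x)))
      (card_img_plane (S.restrict _ (S.perp_inv hB)) Nat.prime_two (by rw [hk, hmk.2]; norm_num)
        (fun x => Subtype.ext (by simpa using hexp x)))) (by norm_num))

end Sixteen

section Bounds

variable {F : Type w} [Field F] [Finite F]

theorem irred_six_two (hq : Nat.card F = 2) : IrredBound.{v} F 6 2187 := by
  intro W _ _ _ _ _ H _ _ τ hs hτ hirr hsol
  by_cases hprim : NoDecomp τ
  · obtain ⟨P⟩ : Nonempty (PrimData H 2 6) := by
      have h0 := exists_primData τ hτ hirr hprim hsol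
      rwa [hq, hs] at h0
    have hdim := P.dim
    have hA := P.card_A
    rcases eq_of_mul_eq_six hdim with ⟨ha, hd⟩ | ⟨ha, hd⟩ | ⟨ha, hd⟩ | ⟨ha, hd⟩
    · refine (P.card_le_trivial (P.card_M_one fun l hl h => ?_)).trans (by rw [ha]; norm_num)
      rw [ha] at h
      exact absurd (Nat.dvd_one.1 (by simpa using h)) hl.ne_one
    · obtain ⟨m, hm, hle, hexp⟩ := P.card_M_square Nat.prime_three fun l hl h _ => by
        rw [ha] at h
        exact prime_le_three_of_dvd_three hl (by simpa using h)
      rw [hd] at hle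
      rcases (show m = 0 ∨ m = 1 ∨ 2 ≤ m by omega) with rfl | rfl | hm2
      · refine (P.card_le_trivial (by simpa using hm)).trans (by rw [ha]; norm_num)
      · have himg := card_img_plane P.S Nat.prime_three (by rw [hm]; norm_num) hexp
        refine P.card_le.trans ?_
        rw [ha] at hA ⊢
        rw [hm]
        calc _ ≤ 2 * (3 * 3 ^ (2 * 1) * ((3 * 3 - 1) * 3)) :=
              Nat.mul_le_mul_left _ (Nat.mul_le_mul (Nat.mul_le_mul_right _ (by simpa using hA)) himg)
          _ ≤ 2187 := by norm_num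
      · have : 3 ^ 4 ≤ 3 ^ (2 * m) := Nat.pow_le_pow_right (by norm_num) (by omega)
        omega
    · refine (P.card_le_trivial (P.card_M_one fun l hl h => ?_)).trans (by rw [ha]; norm_num)
      rw [ha] at h
      have : l = 7 := ((Nat.dvd_prime (by norm_num)).1 (by simpa using h)).resolve_left hl.ne_one
      rw [hd, this]; norm_num
    · refine (P.card_le_trivial (P.card_M_one fun l hl _ => ?_)).trans (by rw [ha]; norm_num)
      rw [hd]; exact hl.one_lt
  · obtain ⟨B⟩ := exists_blocks hprim
    have hd := B.dim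
    have h2 := B.two_le
    rw [hs] at hd
    rcases eq_of_mul_eq_six hd with ⟨ht, hs'⟩ | ⟨ht, hs'⟩ | ⟨ht, hs'⟩ | ⟨ht, hs'⟩
    · omega
    · exact B.card_le_of hτ hirr hsol ht hs' (irred_three_two hq) (by decide)
    · exact B.card_le_of hτ hirr hsol ht hs' (irred_units 2) (by rw [hq]; decide)
    · exact B.card_le_of hτ hirr hsol ht hs' (irred_units 1) (by rw [hq]; decide)

theorem irred_four_three (hq : Nat.card F = 3) : IrredBound.{v} F 4 6561 := by
  intro W _ _ _ _ _ H _ _ τ hs hτ hirr hsol
  by_cases hprim : NoDecomp τ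
  · obtain ⟨P⟩ : Nonempty (PrimData H 3 4) := by
      have h0 := exists_primData τ hτ hirr hprim hsol
      rwa [hq, hs] at h0
    have hdim := P.dim
    have hA := P.card_A
    have htwo : ∀ a, 1 ≤ a → a ≤ 2 → ∀ l : ℕ, l.Prime → l ∣ 3 ^ a - 1 → l = 2 := by
      intro a ha0 ha l hl h
      have h8 : l ∣ 2 ^ 3 := h.trans (by interval_cases a <;> norm_num)
      exact (Nat.prime_dvd_prime_iff_eq hl Nat.prime_two).1 (hl.dvd_of_dvd_pow h8)
    rcases eq_of_mul_eq_four hdim with ⟨ha, hd⟩ | ⟨ha, hd⟩ | ⟨ha, hd⟩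
    · obtain ⟨m, hm, hle, hexp⟩ := P.card_M_square Nat.prime_two fun l hl h _ =>
        htwo P.a (by omega) (by omega) l hl h
      rw [hd] at hle
      rcases (show m = 0 ∨ m = 1 ∨ m = 2 ∨ 3 ≤ m by omega) with rfl | rfl | rfl | hm2
      · refine (P.card_le_trivial (by simpa using hm)).trans (by rw [ha]; norm_num)
      · have himg := card_img_plane P.S Nat.prime_two (by rw [hm]; norm_num) hexp
        refine P.card_le.trans ?_
        rw [ha] at hA ⊢
        rw [hm]
        calc _ ≤ 1 * (2 * 2 ^ (2 * 1) * ((2 * 2 - 1) * 2)) :=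
              Nat.mul_le_mul_left _ (Nat.mul_le_mul (Nat.mul_le_mul_right _ (by simpa using hA)) himg)
          _ ≤ 6561 := by norm_num
      · have himg := card_img_sixteen P.S hsol (by rw [hm]; norm_num) hexp
        refine P.card_le.trans ?_
        rw [ha] at hA ⊢
        rw [hm]
        calc _ ≤ 1 * (2 * 2 ^ (2 * 2) * 72) :=
              Nat.mul_le_mul_left _ (Nat.mul_le_mul (Nat.mul_le_mul_right _ (by simpa using hA)) himg)
          _ ≤ 6561 := by norm_num
      · have : 2 ^ 6 ≤ 2 ^ (2 * m) := Nat.pow_le_pow_right (by norm_num) (by omega)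
        omega
    · obtain ⟨m, hm, hle, hexp⟩ := P.card_M_square Nat.prime_two fun l hl h _ =>
        htwo P.a (by omega) (by omega) l hl h
      rw [hd] at hle
      rcases (show m = 0 ∨ m = 1 ∨ 2 ≤ m by omega) with rfl | rfl | hm2
      · refine (P.card_le_trivial (by simpa using hm)).trans (by rw [ha]; norm_num)
      · have himg := card_img_plane P.S Nat.prime_two (by rw [hm]; norm_num) hexp
        refine P.card_le.trans ?_
        rw [ha] at hA ⊢
        rw [hm]
        calc _ ≤ 2 * (8 * 2 ^ (2 * 1) * ((2 * 2 - 1) * 2)) :=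
              Nat.mul_le_mul_left _ (Nat.mul_le_mul (Nat.mul_le_mul_right _ (by simpa using hA)) himg)
          _ ≤ 6561 := by norm_num
      · have : 2 ^ 4 ≤ 2 ^ (2 * m) := Nat.pow_le_pow_right (by norm_num) (by omega)
        omega
    · refine (P.card_le_trivial (P.card_M_one fun l hl _ => ?_)).trans (by rw [ha]; norm_num)
      rw [hd]; exact hl.one_lt
  · obtain ⟨B⟩ := exists_blocks hprim
    have hd := B.dim
    have h2 := B.two_le
    rw [hs] at hd
    rcases eq_of_mul_eq_four hd with ⟨ht, hs'⟩ | ⟨ht, hs'⟩ | ⟨ht, hs'⟩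
    · omega
    · exact B.card_le_of hτ hirr hsol ht hs' (irred_units 2) (by rw [hq]; decide)
    · exact B.card_le_of hτ hirr hsol ht hs' (irred_units 1) (by rw [hq]; decide)

end Bounds

end Cfsg.Agent.SolClasses
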