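import Cfsg.Agent.Lib.SolClasses.Main
import Cfsg.Agent.Lib.Solvable.Coprime
import Cfsg.Agent.Lib.Solvable.Hall
import Cfsg.Agent.Lib.Solvable.Fitting
import Cfsg.Agent.Lib.Transfer.PGroup
import Cfsg.Agent.Lib.Solvable.NilpotentFrattini
import Mathlib.Algebra.Module.ZMod

/-!
# Classes of soluble groups without normal subgroups of order prime to `p`
-/

set_option autoImplicit false
set_option linter.style.haveILetI false
set_option linter.unusedSectionVars false

namespace Cfsg.Agent.SolClasses

open FittingCores
open scoped commutatorElement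

universe u

theorem classes_le_of_pPrimeCore_bot {X : Type u} [Group X] [Finite X] (hsol : Group.IsSolvable X)
    {p : ℕ} [hp : Fact p.Prime] (hcore : Cfsg.pPrimeCore p X = ⊥)
    (hd : 0 < (Nat.card X).factorization p) :
    Nat.card (ConjClasses X) ≤
      3 ^ ((Nat.card X).factorization p - 1) * p ^ (Nat.card X).factorization p := by
  classical
  haveI := hsol
  set d := (Nat.card X).factorization p with hdd
  set R : Subgroup X := Cfsg.pCore p X with hR
  haveI hRn : R.Normal := FittingCores.pCore_normal p
  have hRp : IsPGroup p R := FittingCores.pCore_isPGroup p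
  have hCR : Subgroup.centralizer (R : Set X) ≤ R := centralizer_pCore_le hp.out hcore
  obtain ⟨k, hk⟩ := IsPGroup.iff_card.1 hRp
  have hpX : p ∣ Nat.card X := Nat.dvd_of_factorization_pos hd.ne'
  have hkd : k ≤ d := by
    refine (hp.out.pow_dvd_iff_le_factorization Nat.card_pos.ne').1 ?_
    exact hk ▸ Subgroup.card_subgroup_dvd_card R
  -- the complement
  set m := Nat.card X / p ^ d with hm
  have hmd : Nat.card X = m * p ^ d := (Nat.div_mul_cancel (Nat.ordProj_dvd _ _)).symm
  have hcop : m.Coprime (p ^ d) :=
    ((Nat.coprime_ordCompl hp.out Nat.card_pos.ne').symm).pow_right _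
  obtain ⟨H, hH⟩ := HallSolv.exists_hall (G := X) hmd hcop
  have hpm : ¬ p ∣ Nat.card H := hH ▸ Nat.not_dvd_ordCompl hp.out Nat.card_pos.ne'
  have hdisj : R ⊓ H = ⊥ := by
    refine (Subgroup.disjoint_of_coprime_natCard ?_).eq_bot
    rw [hk]
    exact (hp.out.coprime_iff_not_dvd.2 hpm).pow_left k
  set W := R ⊔ H with hW
  have hWidx : W.index * Nat.card R ≤ p ^ d := by
    refine Nat.le_of_mul_le_mul_right ?_ (Nat.card_pos (α := H))
    rw [mul_assoc, ← Nat.card_prod]
    calc W.index * Nat.card (R × H) ≤ W.index * Nat.card W := by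
          refine Nat.mul_le_mul_left _ (Nat.card_le_card_of_injective (fun z : R × H =>
            (⟨(z.1 : X) * z.2, Subgroup.mul_mem_sup z.1.2 z.2.2⟩ : W)) fun a b e => ?_)
          have e' : (a.1 : X) * a.2 = b.1 * b.2 := congrArg Subtype.val e
          have e2 : ((b.1 : X))⁻¹ * a.1 = b.2 * (a.2 : X)⁻¹ := by
            rw [inv_mul_eq_iff_eq_mul, ← mul_assoc, ← e', mul_inv_cancel_right]
          have e3 : ((b.1 : X))⁻¹ * a.1 ∈ R ⊓ H :=
            ⟨R.mul_mem (R.inv_mem b.1.2) a.1.2, e2 ▸ H.mul_mem b.2.2 (H.inv_mem a.2.2)⟩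
          rw [hdisj, Subgroup.mem_bot, inv_mul_eq_one] at e3
          refine Prod.ext (Subtype.ext e3.symm) (Subtype.ext ?_)
          rw [e3] at e'
          exact mul_left_cancel e'
      _ = Nat.card X := Subgroup.index_mul_card W
      _ = p ^ d * Nat.card H := by rw [hmd, hH, mul_comm]
  -- the module
  let V := R ⧸ frattini R
  letI : CommGroup V :=
    { (inferInstance : Group V) with
      mul_comm := fun x y => by
        obtain ⟨a, rfl⟩ := QuotientGroup.mk_surjective x
        obtain ⟨b, rfl⟩ := QuotientGroup.mk_surjective y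
        rw [← QuotientGroup.mk_mul, ← QuotientGroup.mk_mul, QuotientGroup.eq]
        haveI := hRp.isNilpotent
        refine SolvStruct.commutator_le_frattini R ?_
        have e : (a * b)⁻¹ * (b * a) = ⁅b⁻¹, a⁻¹⁆ := by rw [commutatorElement_def]; group
        rw [e]
        exact Subgroup.commutator_mem_commutator (Subgroup.mem_top _) (Subgroup.mem_top _) }
  have hexpV : ∀ v : V, v ^ p = 1 := fun v => by
    obtain ⟨a, rfl⟩ := QuotientGroup.mk_surjective v
    rw [← QuotientGroup.mk_pow, QuotientGroup.eq_one_iff]
    exact PGroupBasics.pow_mem_frattini hRp a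
  have hmap : ∀ g : X, frattini R ≤ (frattini R).comap (MulAut.conjNormal (H := R) g).toMonoidHom :=
    fun g => (Subgroup.characteristic_iff_le_comap.1 inferInstance) _
  let actf : X → (V →* V) := fun g =>
    QuotientGroup.map _ _ (MulAut.conjNormal (H := R) g).toMonoidHom (hmap g)
  have hactm : ∀ g h x, actf g (actf h x) = actf (g * h) x := by
    intro g h x
    obtain ⟨f, rfl⟩ := QuotientGroup.mk_surjective x
    show ((MulAut.conjNormal g (MulAut.conjNormal h f) : R) : V) = ((MulAut.conjNormal (g * h) f : R) : V)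
    rw [map_mul, MulAut.mul_apply]
  have hact1 : ∀ x, actf 1 x = x := fun x => by
    obtain ⟨f, rfl⟩ := QuotientGroup.mk_surjective x
    show ((MulAut.conjNormal (1 : X) f : R) : V) = (f : V)
    rw [map_one, MulAut.one_apply]
  let act : X →* MulAut V :=
    { toFun := fun g =>
        { toFun := actf g
          invFun := actf g⁻¹
          left_inv := fun x => by rw [hactm, inv_mul_cancel, hact1]
          right_inv := fun x => by rw [hactm, mul_inv_cancel, hact1]
          map_mul' := map_mul (actf g) }
      map_one' := MulEquiv.ext hact1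
      map_mul' := fun g h => MulEquiv.ext fun x => (hactm g h x).symm }
  have hfaith : ∀ h ∈ H, act h = 1 → h = 1 := by
    intro h hh he
    let A : Subgroup X := Subgroup.zpowers h
    have hker : A ≤ act.ker := (Subgroup.zpowers_le).2 he
    have hA : A ≤ Subgroup.centralizer (R : Set X) := by
      refine CoprimeAct.le_centralizer_of_frattini (by rw [Subgroup.normalizer_eq_top R]; exact le_top) ?_ ?_
      · obtain ⟨j, hj⟩ := IsPGroup.iff_card.1 (hRp.to_subgroup (frattini R))
        rw [hj]
        exact ((hp.out.coprime_iff_not_dvd.2 fun h' => hpm (h'.trans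
          (Subgroup.card_dvd_of_le ((Subgroup.zpowers_le).2 hh)))).pow_left j).symm
      · intro a ha r hr
        have h1 := MulEquiv.congr_fun (show act a = 1 from hker ha) ((⟨r, hr⟩ : R) : V)
        have h2 : ((MulAut.conjNormal a ⟨r, hr⟩ : R) : V) = ((⟨r, hr⟩ : R) : V) := h1
        rw [QuotientGroup.eq] at h2
        have h3 := (inferInstance : (frattini R).Normal).conj_mem _
          ((frattini R).inv_mem h2) (⟨r, hr⟩ : R)
        refine ⟨_, h3, ?_⟩
        simp only [Subgroup.coe_subtype, Subgroup.coe_mul, Subgroup.coe_inv, MulAut.conjNormal_apply]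
        group
    have h4 : h ∈ R ⊓ H := ⟨hCR (hA (Subgroup.mem_zpowers h)), hh⟩
    rwa [hdisj, Subgroup.mem_bot] at h4
  haveI : Nontrivial R := by
    rw [Subgroup.nontrivial_iff_ne_bot]
    intro e
    have : (⊤ : Subgroup X) ≤ ⊥ := by
      refine le_trans (fun g _ => ?_) (hCR.trans e.le)
      rw [e]
      exact Subgroup.mem_centralizer_iff.2 fun y hy => by
        rw [show y = 1 from Subgroup.mem_bot.1 hy, one_mul, mul_one]
    haveI : Subsingleton X := subsingleton_of_forall_eq 1 fun g => Subgroup.mem_bot.1 (this trivial)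
    rw [Nat.card_unique] at hpX
    exact hp.out.not_dvd_one hpX
  haveI : Nontrivial V := by
    rcases subsingleton_or_nontrivial V with hs | hs
    · exfalso
      have htop : frattini R = ⊤ := by
        rw [eq_top_iff]
        intro x _
        exact (QuotientGroup.eq_one_iff x).1 (Subsingleton.elim _ _)
      obtain ⟨M, hM⟩ : ∃ M : Subgroup R, IsCoatom M :=
        (eq_top_or_exists_le_coatom (⊥ : Subgroup R)).resolve_left bot_ne_top |>.imp fun _ h => h.1
      exact hM.1 (top_le_iff.1 (htop.ge.trans (frattini_le_coatom hM)))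
    · exact hs
  haveI : Module (ZMod p) (Additive V) := AddCommGroup.zmodModule fun x => hexpV (Additive.toMul x)
  haveI : Module.Finite (ZMod p) (Additive V) := Module.Finite.of_finite
  haveI : FiniteDimensional (ZMod p) (Additive V) := Module.Finite.of_finite
  set r := Module.finrank (ZMod p) (Additive V) with hr
  have hcardV : Nat.card V = p ^ r := by
    rw [Nat.card_congr (Additive.ofMul (α := V)), Module.natCard_eq_pow_finrank (K := ZMod p), Nat.card_zmod]
  have hr0 : 0 < r := Module.finrank_pos
  have hrk : Nat.card (frattini R) * p ^ r = p ^ k := by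
    rw [← hk, ← hcardV]
    exact Subgroup.card_mul_index (frattini R)
  let L := (linHom (M := V) p).comp (act.comp H.subtype)
  have hL : Function.Injective L := by
    refine (linHom_injective p).comp ((injective_iff_map_eq_one _).2 fun h hh => ?_)
    exact Subtype.ext (hfaith h h.2 hh)
  have hchar : ringChar (ZMod p) = p := ringChar.eq (ZMod p) p
  have hgood := (bound r (Additive V) H L hr.symm hL inferInstance (by rw [hchar]; exact hpm)).2
  -- assemble
  set N : Subgroup W := ((frattini R).map R.subtype).subgroupOf W with hN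
  haveI : ((frattini R).map R.subtype).Normal := normal_map_of_characteristic hRn inferInstance
  haveI : N.Normal := Subgroup.Normal.subgroupOf inferInstance W
  let iR : R →* W ⧸ N := (QuotientGroup.mk' N).comp (Subgroup.inclusion le_sup_left)
  let f1 : Multiplicative (Additive V) →* W ⧸ N :=
    { toFun := fun x => QuotientGroup.lift (frattini R) iR (fun y hy =>
          (QuotientGroup.eq_one_iff _).2 (Subgroup.mem_subgroupOf.2 (Subgroup.mem_map_of_mem _ hy)))
          (Additive.toMul (Multiplicative.toAdd x))
      map_one' := map_one _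
      map_mul' := fun a b => map_mul _ _ _ }
  let f2 : H →* W ⧸ N := (QuotientGroup.mk' N).comp (Subgroup.inclusion le_sup_right)
  let φ : Aff L →* W ⧸ N := SemidirectProduct.lift f1 f2 fun h => MonoidHom.ext fun x => by
    obtain ⟨r, hr⟩ := QuotientGroup.mk_surjective (Additive.toMul (Multiplicative.toAdd x))
    have hx : x = Multiplicative.ofAdd (Additive.ofMul (r : V)) := by rw [hr]; rfl
    subst hx
    show ((Subgroup.inclusion le_sup_left (MulAut.conjNormal (h : X) r) : W) : W ⧸ N) =
      ((Subgroup.inclusion le_sup_right h : W) : W ⧸ N) * ((Subgroup.inclusion le_sup_left r : W) : W ⧸ N) *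
        (((Subgroup.inclusion le_sup_right h : W) : W ⧸ N))⁻¹
    rw [← QuotientGroup.mk_inv, ← QuotientGroup.mk_mul, ← QuotientGroup.mk_mul]
    congr 1
  have hφ : Function.Surjective φ := by
    intro y
    obtain ⟨⟨w, hw⟩, rfl⟩ := QuotientGroup.mk_surjective y
    obtain ⟨a, ha, b, hb, rfl⟩ := Subgroup.mem_sup_of_normal_left.1 hw
    refine ⟨SemidirectProduct.inl (Multiplicative.ofAdd (Additive.ofMul ((⟨a, ha⟩ : R) : V))) *
      SemidirectProduct.inr (⟨b, hb⟩ : H), ?_⟩
    rw [map_mul, SemidirectProduct.lift_inl, SemidirectProduct.lift_inr]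
    rfl
  have hq : Nat.card (ConjClasses (W ⧸ N)) ≤ 3 ^ (r - 1) * p ^ r := by
    refine (classes_le_of_surjective φ hφ).trans ?_
    refine le_trans (le_of_eq (classes_congr (Subgroup.topEquiv (G := Aff L)).symm)) ?_
    refine (hgood ⊤ le_top).trans (Nat.mul_le_mul_left _ (le_of_eq ?_))
    rw [← Nat.card_congr (Additive.ofMul (α := V)), hcardV]
  have hNc : Nat.card (ConjClasses N) ≤ Nat.card (frattini R) := by
    refine classes_le_card.trans (le_of_eq ?_)
    rw [hN, Nat.card_congr (Subgroup.subgroupOfEquivOfLe ((Subgroup.map_subtype_le _).trans le_sup_left)).toEquiv,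
      Subgroup.card_map_of_injective R.subtype_injective]
  have hrd : r ≤ d := by
    refine le_trans ?_ hkd
    refine (Nat.pow_le_pow_iff_right hp.out.one_lt).1 ?_
    rw [← hrk]
    exact Nat.le_mul_of_pos_left _ Nat.card_pos
  calc Nat.card (ConjClasses X) ≤ W.index * Nat.card (ConjClasses W) := classes_le_index_mul W
    _ ≤ W.index * (Nat.card (frattini R) * (3 ^ (r - 1) * p ^ r)) :=
        Nat.mul_le_mul_left _ ((S4201.result N).trans (Nat.mul_le_mul hNc hq))
    _ = 3 ^ (r - 1) * (W.index * Nat.card R) := by rw [hk, ← hrk]; ring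
    _ ≤ 3 ^ (d - 1) * p ^ d :=
        Nat.mul_le_mul (Nat.pow_le_pow_right (by norm_num) (by omega)) hWidx

end Cfsg.Agent.SolClasses
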