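import Cfsg.Agent.Lib.SolClasses.Orders
import Mathlib.GroupTheory.PGroup

/-!
# Classes of irreducible soluble groups on sixteen vectors
-/

set_option autoImplicit false
set_option linter.style.haveILetI false
set_option linter.unusedSectionVars false

namespace Cfsg.Agent.SolClasses

open PrimSol SolBase

universe u v w

variable {F : Type w} [Field F] [Finite F] {V : Type v} [AddCommGroup V] [Module F V]
  [FiniteDimensional F V] [Finite V] [Nontrivial V] {G : Type u} [Group G] [Finite G]
  {ρ : G →* Module.End F V}

theorem card_cent_five (hρ : Function.Injective ρ) (hq : Nat.card F = 2)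
    (hr : Module.finrank F V = 4) {a : G} (ha : orderOf a = 5) :
    Nat.card (Subgroup.centralizer ({a} : Set G)) ≤ 15 := by
  classical
  haveI : Fact (Nat.Prime 5) := ⟨Nat.prime_five⟩
  obtain ⟨v, hv⟩ : ∃ v, ρ a v ≠ v := by
    by_contra hc
    push Not at hc
    have : a = 1 := hρ ((LinearMap.ext fun w => by rw [hc w, Module.End.one_apply]).trans (map_one ρ).symm)
    rw [this, orderOf_one] at ha
    exact absurd ha (by norm_num)
  have hv0 : v ≠ 0 := fun e => hv (by rw [e, map_zero])
  have hcardV : Nat.card V = 16 := by
    rw [Module.natCard_eq_pow_finrank (K := F) (V := V), hq, hr]; norm_num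
  have key : ∀ h : G, h * a = a * h → ρ h v = v → h = 1 := by
    intro h hh hhv
    let W : Submodule F V := fix ρ h
    have hW : ∀ w ∈ W, ρ a w ∈ W := fun w hw => (mem_fix ρ).2 (by
      rw [← Module.End.mul_apply, ← map_mul, hh, map_mul, Module.End.mul_apply, (mem_fix ρ).1 hw])
    have hpow : ∀ k : ℕ, ∀ w ∈ W, ρ (a ^ k) w ∈ W := by
      intro k
      induction k with
      | zero => intro w hw; rwa [pow_zero, map_one, Module.End.one_apply]
      | succ k ih => intro w hw; rw [pow_succ', map_mul, Module.End.mul_apply]; exact hW _ (ih w hw)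
    let Z := Subgroup.zpowers a
    have hZW : ∀ z ∈ Z, ∀ w ∈ W, ρ z w ∈ W := fun z hz w hw => by
      obtain ⟨k, rfl⟩ := (isOfFinOrder_of_finite a).mem_powers_iff_mem_zpowers.2 hz
      exact hpow k w hw
    letI : MulAction Z W :=
      { smul := fun z w => ⟨ρ (z : G) (w : V), hZW z z.2 w w.2⟩
        one_smul := fun w => Subtype.ext (by
          show ρ ((1 : Z) : G) (w : V) = w
          rw [OneMemClass.coe_one, map_one, Module.End.one_apply])
        mul_smul := fun y z w => Subtype.ext (by
          show ρ ((y * z : Z) : G) (w : V) = ρ (y : G) (ρ (z : G) w)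
          rw [Subgroup.coe_mul, map_mul, Module.End.mul_apply]) }
    have hZ : IsPGroup 5 Z := IsPGroup.of_card (n := 1) (by rw [Nat.card_zpowers, ha, pow_one])
    have hmod := hZ.card_modEq_card_fixedPoints W
    let W' : Submodule F V := W ⊓ fix ρ a
    have hfix : Nat.card (MulAction.fixedPoints Z W) = Nat.card W' := by
      refine Nat.card_congr
        { toFun := fun w => ⟨(w.1 : V), w.1.2, (mem_fix ρ).2 (congrArg Subtype.val (w.2 ⟨a, Subgroup.mem_zpowers a⟩))⟩
          invFun := fun w => ⟨⟨w.1, w.2.1⟩, fun z => ?_⟩
          left_inv := fun _ => rfl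
          right_inv := fun _ => rfl }
      obtain ⟨k, hk⟩ := (isOfFinOrder_of_finite a).mem_powers_iff_mem_zpowers.2 z.2
      refine Subtype.ext ?_
      show ρ (z : G) (w.1 : V) = w.1
      rw [← hk]
      clear hk
      induction k with
      | zero => simp
      | succ k ih =>
        show ρ (a ^ (k + 1)) (w.1 : V) = w.1
        rw [pow_succ, map_mul, Module.End.mul_apply, (mem_fix ρ).1 w.2.2]
        exact ih
    have hlt : Module.finrank F W' < Module.finrank F W := by
      refine Submodule.finrank_lt_finrank_of_lt (lt_of_le_of_ne inf_le_left fun e => hv ?_)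
      have hvW : v ∈ W := (mem_fix ρ).2 hhv
      rw [← e] at hvW
      exact (mem_fix ρ).1 hvW.2
    have hle : Module.finrank F W ≤ 4 := hr ▸ Submodule.finrank_le W
    rw [hfix, Module.natCard_eq_pow_finrank (K := F) (V := W),
      Module.natCard_eq_pow_finrank (K := F) (V := W'), hq] at hmod
    have h4 : Module.finrank F W = 4 := by
      generalize Module.finrank F W = i at hlt hle hmod
      generalize Module.finrank F W' = j at hlt hmod
      interval_cases i <;> interval_cases j <;> simp_all [Nat.ModEq]
    have htop : W = ⊤ := Submodule.eq_top_of_finrank_eq (h4.trans hr.symm)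
    exact hρ ((LinearMap.ext fun w => by
      rw [(mem_fix ρ).1 (htop ▸ Submodule.mem_top : w ∈ W), Module.End.one_apply]).trans (map_one ρ).symm)
  calc Nat.card (Subgroup.centralizer ({a} : Set G)) ≤ Nat.card {w : V // w ≠ 0} := by
        refine Nat.card_le_card_of_injective (fun g => (⟨ρ (g : G) v, fun e =>
          hv0 (apply_injective ρ _ (e.trans (map_zero _).symm))⟩ : {w : V // w ≠ 0})) fun g g' e => ?_
        have e' : ρ (g : G) v = ρ (g' : G) v := congrArg Subtype.val e
        refine Subtype.ext (inv_mul_eq_one.1 (key ((g' : G)⁻¹ * g) ?_ ?_)).symm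
        · have h1 := Subgroup.mem_centralizer_singleton_iff.1 g.2
          have h2 := Subgroup.mem_centralizer_singleton_iff.1 (Subgroup.inv_mem _ g'.2)
          rw [mul_assoc, h1, ← mul_assoc, h2, mul_assoc]
        · rw [map_mul, Module.End.mul_apply, e', inv_apply_cancel]
    _ = 15 := by
        haveI := Fintype.ofFinite V
        rw [Nat.card_eq_fintype_card, Fintype.card_subtype_compl, Fintype.card_subtype_eq,
          ← Nat.card_eq_fintype_card, hcardV]

/-- Subgroups of an irreducible soluble group on sixteen vectors have at most 27 classes. -/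
theorem kb_sixteen (hρ : Function.Injective ρ) (hirr : Irred ρ) (hsol : Group.IsSolvable G)
    (hq : Nat.card F = 2) (hr : Module.finrank F V = 4) : KB (⊥ : Subgroup G) 27 := by
  classical
  by_cases hprim : NoDecomp ρ
  · obtain ⟨P⟩ : Nonempty (PrimData G 2 4) := by
      have h0 := exists_primData ρ hρ hirr hprim hsol
      rwa [hq, hr] at h0
    have hM : Nat.card P.M = 1 := by
      rcases eq_of_mul_eq_four P.dim with ⟨ha, hd⟩ | ⟨ha, hd⟩ | ⟨ha, hd⟩
      · refine P.card_M_one fun l hl h => ?_
        rw [ha] at h
        exact absurd (Nat.dvd_one.1 (by simpa using h)) hl.ne_one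
      · obtain ⟨m, hm, hle, -⟩ := P.card_M_square Nat.prime_three fun l hl h _ => by
          rw [ha] at h
          exact prime_le_three_of_dvd_three hl (by simpa using h)
        rw [hd] at hle
        rcases Nat.eq_zero_or_pos m with rfl | hm0
        · simpa using hm
        · have : 3 ^ 2 ≤ 3 ^ (2 * m) := Nat.pow_le_pow_right (by norm_num) (by omega)
          omega
      · refine P.card_M_one fun l hl _ => ?_
        rw [hd]; exact hl.one_lt
    have hG := P.card_le_trivial hM
    rcases eq_of_mul_eq_four P.dim with ⟨ha, hd⟩ | ⟨ha, hd⟩ | ⟨ha, hd⟩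
    · exact kb_of_card (hG.trans (by rw [ha]; norm_num))
    · exact kb_of_card (hG.trans (by rw [ha]; norm_num))
    have hdvd := P.card_A_dvd
    rw [ha] at hdvd hG
    haveI : Subsingleton P.M := (Nat.card_eq_one_iff_unique.1 hM).1
    have hY : P.S.Y1 ≤ P.A := by
      intro g hg
      have hgE : g ∈ P.E := by
        rw [← P.act_ker]
        exact ⟨MulEquiv.ext fun _ => Subsingleton.elim _ _, hg⟩
      have hAE : P.A = P.E := Subgroup.eq_of_le_of_card_ge P.A_le (by
        have h1 := Subgroup.index_mul_card (P.A.subgroupOf P.E)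
        rw [Nat.card_congr (Subgroup.subgroupOfEquivOfLe P.A_le).toEquiv] at h1
        have h2 : (P.A.subgroupOf P.E).index = 1 := P.card_M.symm.trans hM
        rw [h2, one_mul] at h1
        exact h1.ge)
      exact hAE ▸ hgE
    have hidx : P.A.index ≤ 4 := by
      have h1 : P.A ≤ P.S.Y1 := P.A_le.trans P.E_le_cent
      rw [le_antisymm h1 hY]
      exact P.Y1_index.trans ha.le
    by_cases h5 : Nat.card P.A ≤ 6
    · refine kb_of_card ?_
      rw [← P.A.index_mul_card]
      exact (Nat.mul_le_mul hidx h5).trans (by norm_num)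
    have hA15 : Nat.card P.A = 15 := by
      have hle := Nat.le_of_dvd (by norm_num) hdvd
      generalize Nat.card P.A = n at h5 hdvd hle
      interval_cases n <;> omega
    intro X _
    rcases Nat.lt_or_ge 27 (Nat.card X) with hX | hX
    swap
    · exact classes_le_card.trans hX
    set Y : Subgroup X := P.A.subgroupOf X with hYdef
    have hYi : Y.index ≤ 4 := by
      haveI := P.A_normal
      exact (Nat.le_of_dvd (Nat.pos_of_ne_zero Subgroup.index_ne_zero_of_finite)
        (Subgroup.relIndex_dvd_index_of_normal (H := P.A) (K := X))).trans hidx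
    have hYc : Nat.card Y ≤ 15 := by
      rw [← hA15]
      exact Nat.card_le_card_of_injective (fun y : Y => (⟨((y : X) : G), y.2⟩ : P.A))
        fun y z e => Subtype.ext (Subtype.ext (congrArg (fun b : P.A => (b : G)) e))
    haveI := Fintype.ofFinite X
    let S : Finset X := Finset.univ.filter fun x => x ∈ Y
    have hS : S.card ≤ 15 := by
      refine le_trans (le_of_eq ?_) hYc
      rw [Nat.card_eq_fintype_card, Fintype.card_subtype]
    have hc : ∀ x : X, x ∉ S → Nat.card {y : X // Commute x y} ≤ 12 := by
      intro x hx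
      have hxY : x ∉ Y := fun h => hx (Finset.mem_filter.2 ⟨Finset.mem_univ _, h⟩)
      refine (card_commute_le Y x).trans (le_trans (Nat.mul_le_mul hYi ?_) (by norm_num : 4 * 3 ≤ 12))
      let CA : Subgroup G := P.A ⊓ Subgroup.centralizer ({(x : G)} : Set G)
      have h1 : Nat.card {y : Y // Commute x (y : X)} ≤ Nat.card CA :=
        Nat.card_le_card_of_injective (fun y => (⟨((y.1 : X) : G), y.1.2,
          Subgroup.mem_centralizer_singleton_iff.2 (congrArg Subtype.val y.2.eq).symm⟩ : CA))
          fun y z e => Subtype.ext (Subtype.ext (Subtype.ext (congrArg (fun b : CA => (b : G)) e)))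
      refine h1.trans ?_
      have hd15 : Nat.card CA ∣ 15 := hA15 ▸ Subgroup.card_dvd_of_le inf_le_left
      have h5' : ¬ 5 ∣ Nat.card CA := fun hd => by
        haveI : Fact (Nat.Prime 5) := ⟨Nat.prime_five⟩
        obtain ⟨a, ha5⟩ := exists_prime_orderOf_dvd_card' 5 hd
        have hb := card_cent_five hρ hq hr (a := (a : G)) (by rw [Subgroup.orderOf_coe, ha5])
        have hAle : P.A ≤ Subgroup.centralizer ({(a : G)} : Set G) := fun b hb =>
          Subgroup.mem_centralizer_singleton_iff.2 (P.A_comm b hb a a.2.1)
        have heq := Subgroup.eq_of_le_of_card_ge hAle (hb.trans hA15.ge)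
        apply hxY
        show (x : G) ∈ P.A
        rw [heq]
        exact Subgroup.mem_centralizer_singleton_iff.2
          (Subgroup.mem_centralizer_singleton_iff.1 a.2.2).symm
      have hle := Nat.le_of_dvd (by norm_num) hd15
      generalize Nat.card CA = n at hd15 h5' hle
      interval_cases n <;> omega
    have hmain := classes_le_of_centralizers S 15 12 hS (by omega) hc
    by_contra hk
    have := Nat.mul_le_mul_right (Nat.card X) (Nat.le_of_not_ge hk)
    omega
  · obtain ⟨B⟩ := exists_blocks hprim
    have hd := B.dim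
    have h2 := B.two_le
    rw [hr] at hd
    rcases eq_of_mul_eq_four hd with ⟨ht, hs'⟩ | ⟨ht, hs'⟩ | ⟨ht, hs'⟩
    · omega
    swap
    · exact kb_of_card (B.card_le_of hρ hirr hsol ht hs' (irred_units 1) (by rw [hq]; decide))
    have hplane : ∀ i, KB (⊥ : Subgroup ((autHom F (B.D i)).comp (B.bl i)).range) 3 := by
      intro i
      haveI : Finite (MulAut (Multiplicative (B.D i))) := Finite.of_injective _ DFunLike.coe_injective
      haveI : CharP F 2 := by
        haveI : Fact (Nat.Prime 2) := ⟨Nat.prime_two⟩
        haveI := Fintype.ofFinite F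
        exact charP_of_card_eq_prime (R := F) (by rwa [← Nat.card_eq_fintype_card])
      exact kb_plane (M := Multiplicative (B.D i)) Nat.prime_two
        (by
          rw [Nat.card_congr Multiplicative.toAdd, Module.natCard_eq_pow_finrank (K := F) (V := B.D i),
            hq, B.rank, hs']
          norm_num)
        (fun x => by
          show (2 : ℕ) • (Multiplicative.toAdd x) = 0
          rw [← Nat.cast_smul_eq_nsmul F]
          simp [CharTwo.two_eq_zero])
        ((autHom F (B.D i)).comp (B.bl i)).range.subtype Subtype.val_injective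
    let i0 : Fin B.t := ⟨0, by omega⟩
    let i1 : Fin B.t := ⟨1, by omega⟩
    have hN : KB (⊥ : Subgroup B.π.ker) 9 := by
      refine kb_two (U := ⊥) (a := 3) (b := 3)
        ((autHom F (B.D i0)).comp (B.bl i0)).rangeRestrict
        ((autHom F (B.D i1)).comp (B.bl i1)).rangeRestrict (fun x h0 h1 => B.bl_joint hρ x fun i => ?_)
        ((hplane i0).mono bot_le le_rfl) (hplane i1) bot_le
      have hi : i = i0 ∨ i = i1 := by
        have := i.2
        simp only [i0, i1, Fin.ext_iff]; omega
      rcases hi with rfl | rfl
      · exact autHom_injective _ _ ((congrArg Subtype.val h0).trans (map_one _).symm)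
      · exact autHom_injective _ _ ((congrArg Subtype.val h1).trans (map_one _).symm)
    refine (kb_hom (U := ⊥) B.π.rangeRestrict (a := 2) (b := 9) (kb_of_card ?_) ?_).mono bot_le
      (by norm_num)
    · exact B.card_range_le.trans (by rw [ht]; decide)
    · rw [MonoidHom.ker_rangeRestrict]
      exact hN.mono bot_le le_rfl

end Cfsg.Agent.SolClasses
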